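import Cfsg.Agent.H408.Pron.PosGU
import Cfsg.Prelude.Def_Classical

/-!
# Odd index subgroups of the symplectic groups: the positive part (helper408)
-/

set_option autoImplicit false
set_option linter.unusedSectionVars false

namespace Cfsg.Agent.H408.Pron.Pos

open Cfsg.Agent.H158.PronSp Cfsg.Agent.H158.PronM2
open Cfsg.Agent.H408.Pron

variable {F : Type*} [Field F]

theorem po_psp [Finite F] (h2 : (2 : F) ≠ 0) {k : ℕ}
    (h : IsSquare (2 : F) ∨ (∃ m, k = 2 ^ m) ∨ ∃ m l, k = 2 ^ m * (2 ^ (2 * l) + 1)) :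
    PO (Cfsg.PSp k F) := by
  obtain ⟨a, b, hab⟩ := exists_sq_add_sq (-1 : F)
  have h3 : PO (Matrix.symplecticGroup (Fin k) F) :=
    Block.PO.of_surjective _ (toSp_surjective hab h2) (PosGU.po_GU h2 h)
  exact Block.PO.of_surjective (QuotientGroup.mk' _) (QuotientGroup.mk'_surjective _) h3

/-- The form used in S2527. -/
theorem po_psp' [Fintype F] (hodd : Odd (Fintype.card F)) {k : ℕ}
    (h : (Fintype.card F % 8 = 3 ∨ Fintype.card F % 8 = 5) →
      (∃ m, k = 2 ^ m) ∨ ∃ m l, k = 2 ^ m * (2 ^ (2 * l) + 1)) : PO (Cfsg.PSp k F) := by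
  have h2 : (2 : F) ≠ 0 := by
    intro h
    have h1 : CharP F 2 := by
      obtain ⟨p, hp⟩ := CharP.exists F
      have h3 : p ∣ 2 := (CharP.cast_eq_zero_iff F p 2).1 (by exact_mod_cast h)
      rcases (Nat.dvd_prime Nat.prime_two).1 h3 with rfl | rfl
      · exact absurd rfl (CharP.char_ne_one F 1)
      · exact hp
    have h3 := FiniteField.even_card_of_char_two (ringChar.eq F 2)
    have h4 := Nat.odd_iff.1 hodd
    omega
  apply po_psp h2
  by_cases h8 : Fintype.card F % 8 = 3 ∨ Fintype.card F % 8 = 5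
  · exact Or.inr (h h8)
  · left
    rw [FiniteField.isSquare_two_iff]
    push Not at h8
    exact h8

end Cfsg.Agent.H408.Pron.Pos
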