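import Mathlib
import Cfsg.Prelude.Def_HallClasses
import Cfsg.Agent.QTNorm.SporBase
import Cfsg.Agent.H158.PronProd
import Cfsg.Agent.H747.RowTwo

/-!
# S2527: pronormality of the subgroups of odd index, interface of the rows (helper408)

* `PO G`   : every subgroup of odd index of `G` is pronormal (the conclusion of every row);
* `SC G`   : the Sylow 2-subgroups of `G` contain their centralizers (may be used as a hypothesis in every row);
* `PO.congr`, `SC.congr` : transport;
* `PO.of_sylow` : one Sylow 2-subgroup `S`, overgroups `H` of `S`, elements of `N(S)`;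
* `PO.of_selfN` : `N(S) = S` (`QTNorm.SelfN`);
* `PO.of_norm`  : `N(S)` normalises every overgroup of `S`;
* `PO.of_centralizes` : the elements of odd order of `N(S)` centralise `S`, and `SC G`;
* `PO.of_aut`   : `S` has no automorphisms of odd order, and `SC G`;
* `PO.of_one`   : `N(S) ≤ ⟨S, w⟩`, and `w` normalises every overgroup of `S` which does not contain `w`
  (the groups `J2`, `J3`, `Suz`, `HN`, where `|N(S) : S| = 3`).
-/

set_option autoImplicit false

namespace Cfsg.Agent.H408.Pron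

open Subgroup Cfsg.Agent.H94.Pronormal

universe u v

/-- every subgroup of odd index is pronormal -/
def PO (G : Type u) [Group G] : Prop := ∀ H : Subgroup G, Odd H.index → Cfsg.IsPronormal H

/-- the Sylow 2-subgroups contain their centralizers -/
def SC (G : Type u) [Group G] : Prop :=
  ∀ S : Sylow 2 G, Subgroup.centralizer ((S : Subgroup G) : Set G) ≤ (S : Subgroup G)

variable {G : Type u} [Group G]

theorem isPronormal_conj {H : Subgroup G} (h : Cfsg.IsPronormal H) (c : G) :
    Cfsg.IsPronormal (H.map (MulAut.conj c).toMonoidHom) := by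
  intro g
  obtain ⟨x, hx, hxe⟩ := h (c⁻¹ * g * c)
  refine ⟨c * x * c⁻¹, ?_, ?_⟩
  · have h1 : c * x * c⁻¹ ∈ (H ⊔ H.map (MulAut.conj (c⁻¹ * g * c)).toMonoidHom).map
        (MulAut.conj c).toMonoidHom := ⟨x, hx, rfl⟩
    rw [Subgroup.map_sup, ← map_conj_mul] at h1
    rw [← map_conj_mul]
    have h3 : c * (c⁻¹ * g * c) = g * c := by group
    rwa [h3] at h1
  · rw [← map_conj_mul, ← map_conj_mul]
    have h3 : g * c = c * (c⁻¹ * g * c) := by group
    have h4 : c * x * c⁻¹ * c = c * x := by group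
    rw [h3, h4, map_conj_mul, hxe, ← map_conj_mul]

/-- It suffices to look at the overgroups of a given Sylow subgroup. -/
theorem PO.of_sylow [Finite G] (S : Sylow 2 G)
    (h1 : ∀ H : Subgroup G, (S : Subgroup G) ≤ H →
      ∀ m ∈ Subgroup.normalizer ((S : Subgroup G) : Set G),
      ∃ x ∈ H ⊔ H.map (MulAut.conj m).toMonoidHom,
        H.map (MulAut.conj m).toMonoidHom = H.map (MulAut.conj x).toMonoidHom) : PO G := by
  intro H hH
  obtain ⟨P, hP⟩ := Cfsg.Agent.H158.PronProd.exists_sylow_le' hH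
  obtain ⟨c, rfl⟩ := MulAction.exists_smul_eq G S P
  have h3 : (S : Subgroup G) ≤ H.map (MulAut.conj c⁻¹).toMonoidHom := by
    intro s hs
    rw [Cfsg.Agent.H158.PronProd.mem_map_conj, inv_inv]
    apply hP
    rw [Sylow.coe_subgroup_smul, Subgroup.mem_pointwise_smul_iff_inv_smul_mem]
    have h0 : (MulAut.conj c)⁻¹ • (c * s * c⁻¹) = s := by
      rw [← map_inv, MulAut.smul_def, MulAut.conj_apply, inv_inv]
      group
    rw [h0]; exact hs
  have h4 := isPronormal_of_sylow S _ h3 (h1 _ h3)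
  have h5 := isPronormal_conj h4 c
  rwa [← map_conj_mul, mul_inv_cancel, map_conj_one] at h5

theorem PO.congr {G' : Type v} [Group G'] (e : G ≃* G') (h : PO G) : PO G' := by
  intro H hH g
  have hi : (H.comap e.toMonoidHom).index = H.index := Subgroup.index_comap_of_surjective _ e.surjective
  obtain ⟨x, hx, hxe⟩ := h (H.comap e.toMonoidHom) (by rw [hi]; exact hH) (e.symm g)
  have key : ∀ y : G, (H.comap e.toMonoidHom).map (MulAut.conj y).toMonoidHom =
      (H.map (MulAut.conj (e y)).toMonoidHom).comap e.toMonoidHom := by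
    intro y
    ext z
    simp only [Subgroup.mem_map, Subgroup.mem_comap, MulEquiv.coe_toMonoidHom, MulAut.conj_apply]
    constructor
    · rintro ⟨a, ha, rfl⟩
      exact ⟨e a, ha, by simp⟩
    · rintro ⟨a, ha, hz⟩
      refine ⟨e.symm a, by simpa using ha, ?_⟩
      apply e.injective
      rw [← hz]; simp
  refine ⟨e x, ?_, ?_⟩
  · rw [key, e.apply_symm_apply] at hx
    have h2 : H.comap e.toMonoidHom ⊔ (H.map (MulAut.conj g).toMonoidHom).comap e.toMonoidHom ≤
        (H ⊔ H.map (MulAut.conj g).toMonoidHom).comap e.toMonoidHom :=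
      sup_le (Subgroup.comap_mono le_sup_left) (Subgroup.comap_mono le_sup_right)
    exact h2 hx
  · rw [key, key, e.apply_symm_apply] at hxe
    exact Subgroup.comap_injective e.surjective hxe

theorem SC.congr [Finite G] {G' : Type v} [Group G'] (e : G ≃* G') (h : SC G) : SC G' := by
  intro S
  have : Fact (Nat.Prime 2) := ⟨Nat.prime_two⟩
  have hr : (S : Subgroup G') ≤ e.toMonoidHom.range := by
    rw [MonoidHom.range_eq_top.2 e.surjective]; exact le_top
  have h1 := h (S.comapOfInjective e.toMonoidHom e.injective hr)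
  intro x hx
  have h2 : e.symm x ∈ Subgroup.centralizer
      (((S.comapOfInjective e.toMonoidHom e.injective hr : Sylow 2 G) : Subgroup G) : Set G) := by
    rw [Subgroup.mem_centralizer_iff]
    intro y hy
    have hy' : e y ∈ (S : Subgroup G') := hy
    have h3 := Subgroup.mem_centralizer_iff.1 hx _ hy'
    apply e.injective
    rw [map_mul, map_mul, e.apply_symm_apply]
    exact h3
  have h3 := h1 h2
  have h4 : e (e.symm x) ∈ (S : Subgroup G') := h3
  rwa [e.apply_symm_apply] at h4

/-- self-normalising Sylow 2-subgroups -/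
theorem PO.of_selfN [Finite G] (h : Cfsg.Agent.QTNorm.SelfN G) : PO G := by
  obtain ⟨S⟩ : Nonempty (Sylow 2 G) := inferInstance
  refine PO.of_sylow S fun H hH m hm => ⟨m, Subgroup.mem_sup_left (hH (h S hm)), rfl⟩

/-- `N(S)` normalises every overgroup of `S` -/
theorem PO.of_norm [Finite G] (S : Sylow 2 G)
    (h : ∀ H : Subgroup G, (S : Subgroup G) ≤ H → ∀ m ∈ Subgroup.normalizer ((S : Subgroup G) : Set G),
      m ∈ H ∨ ∀ x ∈ H, m * x * m⁻¹ ∈ H) : PO G := by
  refine PO.of_sylow S fun H hH m hm => ?_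
  rcases h H hH m hm with h1 | h1
  · exact ⟨m, Subgroup.mem_sup_left h1, rfl⟩
  · refine ⟨1, one_mem _, ?_⟩
    rw [map_conj_one]
    apply Subgroup.eq_of_le_of_card_ge
    · rintro _ ⟨x, hx, rfl⟩
      exact h1 x hx
    · rw [Subgroup.card_map_of_injective (MulAut.conj m : G ≃* G).injective]

/-- every element of `N(S)` is a product of an element of odd order of `N(S)` and an element of `S` -/
theorem exists_odd_mul [Finite G] (S : Sylow 2 G) {g : G}
    (hg : g ∈ Subgroup.normalizer ((S : Subgroup G) : Set G)) :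
    ∃ a ∈ Subgroup.normalizer ((S : Subgroup G) : Set G), Odd (orderOf a) ∧ ∃ s ∈ (S : Subgroup G), g = a * s := by
  have : Fact (Nat.Prime 2) := ⟨Nat.prime_two⟩
  obtain ⟨k, m, hm, hk⟩ := Nat.exists_eq_pow_mul_and_not_dvd (orderOf_pos g).ne' 2 (by norm_num)
  have hco : Nat.Coprime (2 ^ k) m := Nat.Coprime.pow_left _ (Nat.prime_two.coprime_iff_not_dvd.2 hm)
  obtain ⟨c, hc1, hc2⟩ := Nat.chineseRemainder hco 0 1
  -- `g ^ c` has odd order, `g ^ (1 - c)` is a 2-element
  have h1 : 2 ^ k ∣ c := (Nat.modEq_zero_iff_dvd).1 hc1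
  have hodd : (g ^ c) ^ m = 1 := by
    rw [← pow_mul]
    obtain ⟨d, rfl⟩ := h1
    rw [show 2 ^ k * d * m = orderOf g * d by rw [hk]; ring, pow_mul, pow_orderOf_eq_one, one_pow]
  have hs : (g ^ ((1 : ℤ) - c)) ^ (2 ^ k) = 1 := by
    rw [← zpow_natCast, ← zpow_mul, ← orderOf_dvd_iff_zpow_eq_one, hk]
    have h2 : (m : ℤ) ∣ 1 - c := by
      have := (Nat.modEq_iff_dvd.1 hc2)
      exact_mod_cast this
    obtain ⟨d, hd⟩ := h2
    rw [hd]
    push_cast
    exact ⟨d, by ring⟩
  refine ⟨g ^ c, pow_mem hg c, ?_, g ^ ((1 : ℤ) - c), ?_, ?_⟩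
  · exact Odd.of_dvd_nat (Nat.odd_iff.2 (by omega)) (orderOf_dvd_of_pow_eq_one hodd)
  · exact Cfsg.Agent.H747.mem_of_two_pow S (zpow_mem hg _) hs
  · rw [← zpow_natCast, ← zpow_add]; simp

/-- `N(S) = S` from the elements of odd order -/
theorem selfN_of_odd [Finite G] (S : Sylow 2 G)
    (h : ∀ g ∈ Subgroup.normalizer ((S : Subgroup G) : Set G), Odd (orderOf g) → g ∈ (S : Subgroup G)) :
    Cfsg.Agent.QTNorm.SelfN G := by
  refine Cfsg.Agent.QTNorm.SelfN.of_one S fun g hg => ?_
  obtain ⟨a, ha, ho, s, hs, rfl⟩ := exists_odd_mul S hg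
  exact mul_mem (h a ha ho) hs

/-- the elements of odd order of `N(S)` centralise `S` -/
theorem selfN_of_centralizes [Finite G] (hC : SC G) (S : Sylow 2 G)
    (h : ∀ g ∈ Subgroup.normalizer ((S : Subgroup G) : Set G), Odd (orderOf g) → ∀ s ∈ (S : Subgroup G), g * s = s * g) :
    Cfsg.Agent.QTNorm.SelfN G :=
  selfN_of_odd S fun g hg ho => hC S (Subgroup.mem_centralizer_iff.2 fun s hs => (h g hg ho s hs).symm)

theorem PO.of_centralizes [Finite G] (hC : SC G) (S : Sylow 2 G)
    (h : ∀ g ∈ Subgroup.normalizer ((S : Subgroup G) : Set G), Odd (orderOf g) → ∀ s ∈ (S : Subgroup G), g * s = s * g) :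
    PO G :=
  PO.of_selfN (selfN_of_centralizes hC S h)

/-- `S` has no automorphism of odd order -/
theorem PO.of_aut [Finite G] (hC : SC G) (S : Sylow 2 G)
    (h : ∀ (φ : MulAut ↥(S : Subgroup G)) (k : ℕ), Odd k → φ ^ k = 1 → φ = 1) : PO G := by
  refine PO.of_centralizes hC S fun g hg ho s hs => ?_
  set φ : MulAut ↥(S : Subgroup G) := (S : Subgroup G).normalizerMonoidHom ⟨g, hg⟩ with hφ
  have h1 : φ ^ orderOf g = 1 := by
    rw [hφ, ← map_pow]
    have : (⟨g, hg⟩ : Subgroup.normalizer ((S : Subgroup G) : Set G)) ^ orderOf g = 1 :=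
      Subtype.ext (pow_orderOf_eq_one g)
    rw [this, map_one]
  have h2 := h φ _ ho h1
  have h3 : ((φ ⟨s, hs⟩ : ↥(S : Subgroup G)) : G) = s := by rw [h2]; rfl
  have h4 : ((φ ⟨s, hs⟩ : ↥(S : Subgroup G)) : G) = g * s * g⁻¹ := rfl
  rw [h4] at h3
  calc g * s = g * s * g⁻¹ * g := by group
    _ = s * g := by rw [h3]

/-- The case `|N(S) : S| = 3`. -/
theorem PO.of_one [Finite G] (S : Sylow 2 G) (w : G)
    (hN : Subgroup.normalizer ((S : Subgroup G) : Set G) ≤ (S : Subgroup G) ⊔ zpowers w)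
    (h : ∀ K : Subgroup G, (S : Subgroup G) ≤ K → w ∉ K → ∀ x ∈ K, w * x * w⁻¹ ∈ K) : PO G := by
  refine PO.of_norm S fun H hH m hm => ?_
  by_cases hw : w ∈ H
  · exact Or.inl ((sup_le hH ((zpowers_le).2 hw)) (hN hm))
  · right
    have h1 : H.map (MulAut.conj w).toMonoidHom = H := by
      apply Subgroup.eq_of_le_of_card_ge
      · rintro _ ⟨x, hx, rfl⟩
        exact h H hH hw x hx
      · rw [Subgroup.card_map_of_injective (MulAut.conj w : G ≃* G).injective]
    have h2 : w ∈ Subgroup.normalizer (H : Set G) := by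
      rw [Subgroup.mem_normalizer_iff]
      intro x
      refine ⟨h H hH hw x, fun hx => ?_⟩
      rw [← h1] at hx
      obtain ⟨y, hy, hye⟩ := hx
      have h3 : w * y * w⁻¹ = w * x * w⁻¹ := hye
      have h4 : y = x := mul_left_cancel (mul_right_cancel h3)
      rwa [← h4]
    have h3 : (S : Subgroup G) ⊔ zpowers w ≤ Subgroup.normalizer (H : Set G) :=
      sup_le (hH.trans Subgroup.le_normalizer) ((zpowers_le).2 h2)
    intro x hx
    exact (Subgroup.mem_normalizer_iff.1 (h3 (hN hm)) x).1 hx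

end Cfsg.Agent.H408.Pron
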