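import Cfsg.Agent.H408.Pron.Defs
import Cfsg.Agent.QTNorm.Main
import Cfsg.Agent.QTNorm.SporM12
import Cfsg.Agent.QTNorm.SporRu
import Cfsg.Agent.QTNorm.SporM22S
import Cfsg.Agent.QTNorm.SporHS
import Cfsg.Agent.QTNorm.SporJ4
import Cfsg.Agent.H769.RowON
import Cfsg.Agent.H769.RowCo3
import Cfsg.Agent.H809.SylB
import Cfsg.Agent.H809.SylC
import Cfsg.Agent.H768.SelfTits
import Cfsg.Agent.H868.SelfN23

/-!
# S2527: the sporadic groups whose self-normalising Sylow 2-subgroups are in the library (helper408)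
-/

set_option autoImplicit false

namespace Cfsg.Agent.H408.Pron.RowsSelf

open Cfsg Cfsg.Agent.QTNorm Cfsg.Agent.H408.Pron

universe u

variable {G : Type u} [Group G] [Finite G]

theorem po_m11 (h : Spor.IsoM11 G) : PO G := PO.of_selfN (selfN_m11 h)
theorem po_m12 (h : Spor.IsoM12 G) : PO G := PO.of_selfN (selfN_m12 h)
theorem po_m22 (h : Spor.IsoM22 G) : PO G := by
  obtain ⟨e⟩ := h
  have : Finite Spor.M22 := Finite.of_equiv _ e.toEquiv
  exact PO.congr e.symm (PO.of_selfN selfN_M22)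
theorem po_m23 (h : Spor.IsoM23 G) : PO G := by
  obtain ⟨e⟩ := h
  have : Finite Spor.M23 := Finite.of_equiv _ e.toEquiv
  exact PO.congr e.symm (PO.of_selfN Cfsg.Agent.H868.selfN_M23)
theorem po_m24 (h : Spor.IsoM24 G) : PO G := PO.of_selfN (selfN_m24 h)
theorem po_he (h : Spor.IsoHe G) : PO G := PO.of_selfN (selfN_he h)
theorem po_hs (h : Spor.IsoHS G) : PO G := PO.of_selfN (HSRow.selfN_hs h)
theorem po_ru (h : Spor.IsoRu G) : PO G := PO.of_selfN (RuRow.selfN_ru h)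
theorem po_j4 (h : Spor.IsoJ4 G) : PO G := PO.of_selfN (JFour.selfN_j4 h)
theorem po_on (h : Spor.IsoON G) : PO G := PO.of_selfN (fun S => Cfsg.Agent.H769.RowON.self h S)
theorem po_co3 (h : Spor.IsoCo3 G) : PO G := PO.of_selfN (fun S => Cfsg.Agent.H769.RowCo3.self h S)
theorem po_mcl (h : Spor.IsoMcL G) : PO G := PO.of_selfN (Cfsg.Agent.H809.Syl.selfN_mcl h)
theorem po_ly (h : Spor.IsoLy G) : PO G := PO.of_selfN (Cfsg.Agent.H809.Syl.selfN_ly h)
theorem po_fi22 (h : Spor.IsoFi22 G) : PO G := PO.of_selfN (Cfsg.Agent.H809.Syl.selfN_fi22 h)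
theorem po_fi23 (h : Spor.IsoFi23 G) : PO G := PO.of_selfN (Cfsg.Agent.H809.Syl.selfN_fi23 h)
theorem po_fi24 (h : Spor.IsoFi24' G) : PO G := PO.of_selfN (Cfsg.Agent.H809.Syl.selfN_fi24 h)
theorem po_tits (h : Lie.IsoTits G) : PO G := PO.of_selfN (Cfsg.Agent.H768.SelfTits.selfN_tits h)

end Cfsg.Agent.H408.Pron.RowsSelf
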