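import Cfsg.Agent.H408.Pron.Cases2

/-!
# Odd index subgroups of the symplectic groups: the positive part, `GU` (helper408)
-/

set_option autoImplicit false
set_option linter.unusedSectionVars false

namespace Cfsg.Agent.H408.Pron.PosGU

open Quaternion Matrix Equiv
open Cfsg.Agent.H158.PronQ Cfsg.Agent.H158.PronMat Cfsg.Agent.H158.PronMono
open Cfsg.Agent.H158.PronProd Cfsg.Agent.H158.PronB Cfsg.Agent.H158.PronSp Cfsg.Agent.H158.PronM2
open Cfsg.Agent.H408.Pron

variable {F : Type*} [Field F]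
variable {m n : Type*} [Fintype m] [DecidableEq m] [Fintype n] [DecidableEq n]

/-- Reindexing. -/
def reGU (e : m ≃ n) : GU m F →* GU n F where
  toFun g := ⟨g.1.submatrix e.symm e.symm, by
    rw [mem_GU, Matrix.conjTranspose_submatrix, Matrix.submatrix_mul_equiv, Matrix.submatrix_mul_equiv,
      star_mul_coe, coe_mul_star, Matrix.submatrix_one_equiv]
    exact ⟨rfl, rfl⟩⟩
  map_one' := Subtype.ext (Matrix.submatrix_one_equiv _)
  map_mul' g h := Subtype.ext (by
    show (g.1 * h.1).submatrix e.symm e.symm = g.1.submatrix e.symm e.symm * h.1.submatrix e.symm e.symm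
    rw [Matrix.submatrix_mul_equiv])

theorem reGU_surjective (e : m ≃ n) : Function.Surjective (reGU e : GU m F →* GU n F) := by
  intro g
  refine ⟨reGU e.symm g, ?_⟩
  apply Subtype.ext
  ext1 a b
  show g.1 (e (e.symm a)) (e (e.symm b)) = g.1 a b
  rw [e.apply_symm_apply, e.apply_symm_apply]

theorem po_GU [Finite F] (h2 : (2 : F) ≠ 0) {k : ℕ}
    (h : IsSquare (2 : F) ∨ (∃ m, k = 2 ^ m) ∨ ∃ m l, k = 2 ^ m * (2 ^ (2 * l) + 1)) :
    PO (GU (Fin k) F) := by
  by_cases hs : IsSquare (2 : F)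
  · exact (pn_sq h2 hs).pron
  rcases h with h | ⟨m, hm⟩ | ⟨m, l, hm⟩
  · exact absurd h hs
  · exact (pn_GU (k := m) h2 (by rw [Fintype.card_fin]; exact hm)).pron
  · rcases Nat.eq_zero_or_pos l with rfl | hl
    · exact (pn_GU (k := m + 1) h2 (by rw [Fintype.card_fin, hm, pow_succ]; norm_num)).pron
    · have hc : Fintype.card (Fin (2 ^ (m + 2 * l)) ⊕ Fin (2 ^ m)) = Fintype.card (Fin k) := by
        rw [Fintype.card_sum, Fintype.card_fin, Fintype.card_fin, Fintype.card_fin, hm]; ring
      exact Block.PO.of_surjective _ (reGU_surjective (Fintype.equivOfCardEq hc))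
        (Cases.po_sum h2 hs (α := Fin (2 ^ (m + 2 * l))) (β := Fin (2 ^ m)) (a := m + 2 * l) (b := m)
          (Fintype.card_fin _) (Fintype.card_fin _) (by omega) (by omega))

end Cfsg.Agent.H408.Pron.PosGU
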