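import Cfsg.Agent.H408.Pron.Cases

/-!
# Odd index subgroups of `GU (α ⊕ β) F`: conclusion (helper408)
-/

set_option autoImplicit false
set_option linter.unusedSectionVars false

namespace Cfsg.Agent.H408.Pron.Cases

open Quaternion Matrix Equiv
open Cfsg.Agent.H158.PronQ Cfsg.Agent.H158.PronMat Cfsg.Agent.H158.PronMono
open Cfsg.Agent.H158.PronFrame Cfsg.Agent.H158.PronTwo Cfsg.Agent.H158.PronAvg
open Cfsg.Agent.H158.PronK Cfsg.Agent.H158.PronP Cfsg.Agent.H158.PronT Cfsg.Agent.H158.PronH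
open Cfsg.Agent.H158.PronG Cfsg.Agent.H158.PronM2 Cfsg.Agent.H94.Pronormal
open Cfsg.Agent.H158.PronProd
open Cfsg.Agent.H408.Pron Cfsg.Agent.H408.Pron.Gen Cfsg.Agent.H408.Pron.PermL
open Cfsg.Agent.H408.Pron.AvgTwo Cfsg.Agent.H408.Pron.Frame Cfsg.Agent.H408.Pron.Block

variable {F : Type*} [Field F] [Finite F]
variable {α β : Type*} [Fintype α] [DecidableEq α] [Fintype β] [DecidableEq β]

theorem isBlk_Om (h2 : (2 : F) ≠ 0) (x y : ℤ) : IsBlk (Om h2 x y : GU (α ⊕ β) F) := by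
  refine ⟨fun a b => ?_, fun b a => ?_⟩
  · rw [Om, Dom_apply, if_neg (by simp)]
  · rw [Om, Dom_apply, if_neg (by simp)]

theorem normalizes_of {G : Type*} [Group G] [Finite G] {H : Subgroup G} {g : G}
    (h : ∀ x ∈ H, g * x * g⁻¹ ∈ H) : H.map (MulAut.conj g).toMonoidHom = H := by
  apply Subgroup.eq_of_le_of_card_ge
  · rintro _ ⟨x, hx, rfl⟩
    exact h x hx
  · rw [Subgroup.card_map_of_injective (MulAut.conj g : G ≃* G).injective]

namespace Dat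

variable (X : Dat F α β)

include X in
theorem po_blk : PO (GU α F × GU β F) :=
  ((Cfsg.Agent.H158.PronB.pn_GU (n := α) (F := F) X.h2 X.hα).prod
    (Cfsg.Agent.H158.PronB.pn_GU (n := β) (F := F) X.h2 X.hβ)).pron

theorem odd_index {H : Subgroup (GU (α ⊕ β) F)} (hH : SG (Q8 F) (X.T : Subgroup (Perm (α ⊕ β))) ≤ H) :
    Odd H.index := by
  obtain ⟨S, hS⟩ := exists_sylow_gen X.h2 X.hns X.T
  exact odd_index_of_sylow_le S (hS ▸ hH)

/-- The reducible case. -/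
theorem red {H : Subgroup (GU (α ⊕ β) F)} (hH : SG (Q8 F) (X.T : Subgroup (Perm (α ⊕ β))) ≤ H)
    (hb : ∀ h ∈ H, IsBlk h) (x y : ℤ) :
    ∃ k ∈ H ⊔ H.map (MulAut.conj (Om X.h2 x y)).toMonoidHom,
      H.map (MulAut.conj (Om X.h2 x y)).toMonoidHom = H.map (MulAut.conj k).toMonoidHom :=
  of_range blk X.po_blk (X.odd_index hH) (fun h hh => mem_range_blk (hb h hh))
    (mem_range_blk (isBlk_Om X.h2 x y))

/-- conjugation of `Rj` by `Om` -/
theorem Om_conj_Rj (x y : ℤ) (j : α ⊕ β) (w : U F) :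
    Om X.h2 x y * Rj j w * (Om X.h2 x y)⁻¹ =
      Rj j (om X.h2 ^ (Sum.elim (fun _ => x) (fun _ => y) j : ℤ) * w *
        (om X.h2 ^ (Sum.elim (fun _ => x) (fun _ => y) j : ℤ))⁻¹) := by
  have hm : Mono (Om X.h2 x y : GU (α ⊕ β) F).1 1 := D_mono _
  refine hm.conj_Rj j ?_ w
  rw [Om, Dom_apply, Perm.one_apply, if_pos rfl]

/-- The monomial case. -/
theorem mono_case {H : Subgroup (GU (α ⊕ β) F)} (hH : SG (Q8 F) (X.T : Subgroup (Perm (α ⊕ β))) ≤ H)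
    (x y : ℤ) {K : Subgroup (GU (α ⊕ β) F)} (hKe : K = H ⊔ H.map (MulAut.conj (Om X.h2 x y)).toMonoidHom)
    (hL : Om X.h2 1 0 ∉ K) (hR : Om X.h2 0 1 ∉ K) (hnb : ¬ ∀ h ∈ H, IsBlk h) :
    ∃ k ∈ K, H.map (MulAut.conj (Om X.h2 x y)).toMonoidHom = H.map (MulAut.conj k).toMonoidHom := by
  have hHK : H ≤ K := by rw [hKe]; exact le_sup_left
  have hSK := hH.trans hHK
  have hHgK : ∀ h ∈ H, Om X.h2 x y * h * (Om X.h2 x y)⁻¹ ∈ K := by
    intro h hh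
    have h1 : H.map (MulAut.conj (Om X.h2 x y)).toMonoidHom ≤ K := by rw [hKe]; exact le_sup_right
    exact h1 (conj_mem_map_conj hh)
  have hmono : ∀ h ∈ H, ∃ σ : Perm (α ⊕ β), Mono h.1 σ := fun h hh => X.mono_all hSK hL hR (hHK hh)
  have hTP : (X.T : Subgroup (Perm (α ⊕ β))) ≤ Pm H := le_Pm hH
  -- a permutation moving a point of `α` to `β`
  obtain ⟨ρ, hρ, x₀, y₀, hxy⟩ : ∃ ρ ∈ Pm H, ∃ x₀ y₀, ρ (Sum.inl x₀) = Sum.inr y₀ := by
    push Not at hnb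
    obtain ⟨h, hh, hb⟩ := hnb
    obtain ⟨σ, hσ⟩ := hmono h hh
    by_contra hcon
    push Not at hcon
    apply hb
    refine ⟨fun a b => ?_, fun b a => ?_⟩
    · apply hσ
      intro he
      apply hcon σ⁻¹ (inv_mem ⟨h, hh, hσ⟩) a b
      rw [he]; simp
    · apply hσ
      intro he
      exact hcon σ ⟨h, hh, hσ⟩ a b he.symm
  -- transitivity
  have htr0 : ∀ i : α ⊕ β, ∃ τ ∈ Pm H, τ i = Sum.inl x₀ := by
    rintro (a | b)
    · obtain ⟨τ, hτ, h⟩ := X.hta a x₀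
      exact ⟨_, hTP (X.hT ▸ mem_TT hτ (one_mem _)), congrArg Sum.inl h⟩
    · obtain ⟨τ, hτ, h⟩ := X.htb b y₀
      refine ⟨ρ⁻¹ * (Perm.sumCongrHom α β) (1, τ),
        mul_mem (inv_mem hρ) (hTP (X.hT ▸ mem_TT (one_mem _) hτ)), ?_⟩
      show ρ⁻¹ (Sum.inr (τ b)) = _
      rw [h, ← hxy]; simp
  have htr : ∀ i j : α ⊕ β, ∃ τ ∈ Pm H, τ i = j := by
    intro i j
    obtain ⟨τ, hτ, h⟩ := htr0 i
    obtain ⟨τ', hτ', h'⟩ := htr0 j
    refine ⟨τ'⁻¹ * τ, mul_mem (inv_mem hτ') hτ, ?_⟩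
    show τ'⁻¹ (τ i) = j
    rw [h, ← h']; simp
  by_cases hg1 : (3 : ℤ) ∣ x ∧ (3 : ℤ) ∣ y
  · refine ⟨1, one_mem _, ?_⟩
    have : (Om X.h2 x y : GU (α ⊕ β) F) = 1 := by
      rw [← Om_zero X.h2]
      exact Om_congr X.h2 (by rw [sub_zero]; exact hg1.1) (by rw [sub_zero]; exact hg1.2)
    rw [this]
  -- the entries
  have hQj : ∀ j, Q8 F ≤ H.comap (Rj j) := fun j w hw => hH (Rj_mem _ j hw)
  have hP0 : ∀ j : α ⊕ β, ¬ (3 : ℤ) ∣ (Sum.elim (fun _ => x) (fun _ => y) j : ℤ) →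
      om X.h2 ∉ K.comap (Rj j) → H.comap (Rj j) ≤ Q8 F := by
    intro j hj hom
    refine le_Q8_of_conj X.h2 X.hns (P₂ := K.comap (Rj j)) (hQj j) (Subgroup.comap_mono hHK) hom
      (g := om X.h2 ^ (Sum.elim (fun _ => x) (fun _ => y) j : ℤ)) ?_ ?_
    · rcases om_zpow_cases X.h2 (Sum.elim (fun _ => x) (fun _ => y) j : ℤ) with h | h | h
      · exfalso
        apply hj
        by_contra hnd
        apply om_notMem X.h2
        have h3 := mem_of_zpow (K := (⊥ : Subgroup (U F))) (om_zpow_three X.h2) hnd (by rw [h]; exact one_mem _)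
        rw [Subgroup.mem_bot] at h3
        rw [h3]; exact one_mem _
      · exact Or.inl h
      · exact Or.inr h
    · intro w hw
      show Rj j _ ∈ K
      rw [← X.Om_conj_Rj]
      exact hHgK _ hw
  have hP1 : ∃ j : α ⊕ β, H.comap (Rj j) ≤ Q8 F := by
    by_cases hx : (3 : ℤ) ∣ x
    · refine ⟨Sum.inr y₀, hP0 _ (fun h => hg1 ⟨hx, h⟩) fun h => hR (X.right_Rj hSK h)⟩
    · exact ⟨Sum.inl x₀, hP0 _ hx fun h => hL (X.left_Rj hSK h)⟩
  have hP : ∀ i : α ⊕ β, H.comap (Rj i) ≤ Q8 F := by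
    intro i
    obtain ⟨j, hj⟩ := hP1
    obtain ⟨τ, ⟨h, hh, hτ⟩, rfl⟩ := htr i j
    obtain ⟨u, hu⟩ := hτ.entry i
    have h1 : (H.comap (Rj i)).map (MulAut.conj u).toMonoidHom ≤ Q8 F := by
      rintro _ ⟨w, hw, rfl⟩
      apply hj
      show Rj (τ i) (u * w * u⁻¹) ∈ H
      rw [← hτ.conj_Rj i hu]
      exact mul_mem (mul_mem hh hw) (inv_mem hh)
    have hinj : Function.Injective (MulAut.conj u : U F ≃* U F).toMonoidHom :=
      (MulAut.conj u : U F ≃* U F).injective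
    have h3 : Nat.card (H.comap (Rj i)) ≤ Nat.card (Q8 F) := by
      rw [← Subgroup.card_map_of_injective (K := H.comap (Rj i)) hinj]
      exact Nat.le_of_dvd Nat.card_pos (Subgroup.card_dvd_of_le h1)
    exact (Subgroup.eq_of_le_of_card_ge (hQj i) h3).ge
  have hN : ∀ h ∈ H, ∀ σ : Perm (α ⊕ β), Mono h.1 σ → ∀ b, ∃ w ∈ N8 F, (w : ℍ[F]) = h.1 (σ b) b := by
    intro h hh σ hσ b
    obtain ⟨u, hu⟩ := hσ.entry b
    refine ⟨u, mem_N8_of fun w hw => ?_, hu⟩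
    apply hP (σ b)
    show Rj (σ b) (u * w * u⁻¹) ∈ H
    rw [← hσ.conj_Rj b hu]
    exact mul_mem (mul_mem hh (hQj b hw)) (inv_mem hh)
  -- `ω` normalizes `H`
  have hsc : ∀ t : ℤ, H.map (MulAut.conj (Om X.h2 t t)).toMonoidHom = H := by
    intro t
    apply normalizes_of
    intro h hh
    obtain ⟨σ, hσ⟩ := hmono h hh
    obtain ⟨d, hd, he⟩ := Dom_commutator X.h2 X.hns (Sum.elim (fun _ => t) (fun _ => t)) hσ (hN h hh σ hσ)
    have h1 : Dom X.h2 (fun b => (Sum.elim (fun _ => t) (fun _ => t) : α ⊕ β → ℤ) b -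
        (Sum.elim (fun _ => t) (fun _ => t) : α ⊕ β → ℤ) (σ⁻¹ b)) = 1 := by
      rw [← Dom_zero X.h2]
      congr 1
      funext b
      rcases b with b | b <;> rcases σ⁻¹ _ with c | c <;> simp
    rw [h1, one_mul] at he
    have h3 : Om X.h2 t t * h * (Om X.h2 t t)⁻¹ * h⁻¹ ∈ H := by
      rw [Om, he]
      exact hH (D_mem _ hd)
    have h4 := mul_mem h3 hh
    rwa [inv_mul_cancel_right] at h4
  by_cases hxy3 : (3 : ℤ) ∣ x - y
  · refine ⟨1, one_mem _, ?_⟩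
    have h1 : (Om X.h2 x y : GU (α ⊕ β) F) = Om X.h2 x x :=
      Om_congr X.h2 (by rw [sub_self]; exact dvd_zero _) (by omega)
    rw [h1, hsc, map_conj_one]
  · obtain ⟨σ, ⟨h, hh, hσ⟩, hσβ⟩ := exists_move X.hα X.hβ X.hab (X.hT ▸ hTP) hρ hxy
    have h1 := X.weight hSK hσ (hN h hh σ hσ) hσβ hxy3
      (mul_mem (hHgK h hh) (inv_mem (hHK hh)))
    refine ⟨(Om X.h2 1 (-1)) ^ (y - x), zpow_mem h1 _, ?_⟩
    have h3 : (Om X.h2 x y : GU (α ⊕ β) F) =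
        (Om X.h2 1 (-1)) ^ (y - x) * Om X.h2 (2 * (x + y)) (2 * (x + y)) := by
      rw [← Om_mul, ← Om_add]
      exact Om_congr X.h2 (by omega) (by omega)
    rw [h3, map_conj_mul, hsc]

theorem main {H : Subgroup (GU (α ⊕ β) F)} (hH : SG (Q8 F) (X.T : Subgroup (Perm (α ⊕ β))) ≤ H)
    (x y : ℤ) : ∃ k ∈ H ⊔ H.map (MulAut.conj (Om X.h2 x y)).toMonoidHom,
      H.map (MulAut.conj (Om X.h2 x y)).toMonoidHom = H.map (MulAut.conj k).toMonoidHom := by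
  by_cases hb : ∀ h ∈ H, IsBlk h
  · exact X.red hH hb x y
  set K := H ⊔ H.map (MulAut.conj (Om X.h2 x y)).toMonoidHom with hKe
  have hHK : H ≤ K := le_sup_left
  have hSK := hH.trans hHK
  by_cases hL : Om X.h2 1 0 ∈ K
  · by_cases hR : Om X.h2 0 1 ∈ K
    · exact ⟨Om X.h2 x y, by rw [X.Om_eq]; exact mul_mem (zpow_mem hL _) (zpow_mem hR _), rfl⟩
    · by_cases hNF : ∀ x y, ∀ k ∈ K, k * Rj (Sum.inl x) nu * k⁻¹ ≠ Rj (Sum.inr y) nu
      · exact absurd (fun h hh => X.blk_R hSK hR hNF h (hHK hh)) hb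
      · exfalso
        push Not at hNF
        obtain ⟨a, b, k, hk, he⟩ := hNF
        have h1 := X.fusion hSK (Or.inl hL) hk he
        apply hR
        have h3 : (Om X.h2 0 1 : GU (α ⊕ β) F) = Om X.h2 1 0 * (Om X.h2 1 (-1)) ^ (-1 : ℤ) := by
          rw [← Om_mul, ← Om_add]; norm_num
        rw [h3]
        exact mul_mem hL (zpow_mem h1 _)
  · by_cases hR : Om X.h2 0 1 ∈ K
    · by_cases hNF : ∀ x y, ∀ k ∈ K, k * Rj (Sum.inl x) nu * k⁻¹ ≠ Rj (Sum.inr y) nu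
      · exact absurd (fun h hh => X.blk_L hSK hL hNF h (hHK hh)) hb
      · exfalso
        push Not at hNF
        obtain ⟨a, b, k, hk, he⟩ := hNF
        have h1 := X.fusion hSK (Or.inr hR) hk he
        apply hL
        have h3 : (Om X.h2 1 0 : GU (α ⊕ β) F) = Om X.h2 1 (-1) * Om X.h2 0 1 := by
          rw [← Om_add]; norm_num
        rw [h3]
        exact mul_mem h1 hR
    · exact X.mono_case hH x y hKe hL hR hb

include X in
theorem po : PO (GU (α ⊕ β) F) := by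
  obtain ⟨S, hS⟩ := exists_sylow_gen X.h2 X.hns X.T
  refine PO.of_sylow S fun H hH m hm => ?_
  rw [hS] at hH hm
  obtain ⟨ε, hε, hs⟩ := norm_SG_gen X.h2 X.hns X.T hm
  obtain ⟨x₀⟩ : Nonempty α := by
    rw [← Fintype.card_pos_iff, X.hα]; positivity
  obtain ⟨y₀⟩ : Nonempty β := by
    rw [← Fintype.card_pos_iff, X.hβ]; positivity
  have hεe : ε = Sum.elim (fun _ => ε (Sum.inl x₀)) (fun _ => ε (Sum.inr y₀)) := by
    funext i
    rcases i with a | b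
    · obtain ⟨τ, hτ, h⟩ := X.hta x₀ a
      have := hε _ (X.hT ▸ mem_TT hτ (one_mem _)) (Sum.inl x₀)
      have h1 : (Perm.sumCongrHom α β) (τ, 1) (Sum.inl x₀) = Sum.inl a := congrArg Sum.inl h
      rw [h1] at this
      exact this
    · obtain ⟨τ, hτ, h⟩ := X.htb y₀ b
      have := hε _ (X.hT ▸ mem_TT (one_mem _) hτ) (Sum.inr y₀)
      have h1 : (Perm.sumCongrHom α β) (1, τ) (Sum.inr y₀) = Sum.inr b := congrArg Sum.inr h
      rw [h1] at this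
      exact this
  rw [hεe] at hs
  change (Om X.h2 (ε (Sum.inl x₀)) (ε (Sum.inr y₀)))⁻¹ * m ∈ _ at hs
  have hmap : H.map (MulAut.conj m).toMonoidHom =
      H.map (MulAut.conj (Om X.h2 (ε (Sum.inl x₀)) (ε (Sum.inr y₀)))).toMonoidHom := by
    have e : m = Om X.h2 (ε (Sum.inl x₀)) (ε (Sum.inr y₀)) *
        ((Om X.h2 (ε (Sum.inl x₀)) (ε (Sum.inr y₀)))⁻¹ * m) := by group
    conv_lhs => rw [e, map_conj_mul, map_conj_of_mem_normalizer (Subgroup.le_normalizer (hH hs))]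
  rw [hmap]
  exact X.main hH _ _

end Dat

/-- Odd index subgroups of `GU (α ⊕ β) F` are pronormal. -/
theorem po_sum (h2 : (2 : F) ≠ 0) (hns : ¬ IsSquare (2 : F)) {a b : ℕ} (hα : Fintype.card α = 2 ^ a)
    (hβ : Fintype.card β = 2 ^ b) (hpar : a % 2 = b % 2) (hab : b < a) : PO (GU (α ⊕ β) F) := by
  obtain ⟨T₁⟩ : Nonempty (Sylow 2 (Perm α)) := inferInstance
  obtain ⟨T₂⟩ : Nonempty (Sylow 2 (Perm β)) := inferInstance
  obtain ⟨T, hT⟩ := exists_sylow_TT hα hβ hab.ne' T₁ T₂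
  exact Dat.po (F := F) (α := α) (β := β) ⟨h2, hns, a, b, hα, hβ, hpar, hab, T₁, T₂, T, hT⟩

end Cfsg.Agent.H408.Pron.Cases
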