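import Cfsg.Agent.H158.PronB
import Cfsg.Agent.H158.PronSp

/-!
# The normaliser of the Sylow 2-subgroup of `GU n F`, 2 not a square, any `n` (helper408)
-/

set_option autoImplicit false
set_option linter.unusedSectionVars false

namespace Cfsg.Agent.H408.Pron.Gen

open Quaternion Matrix Equiv
open Cfsg.Agent.H158.PronQ Cfsg.Agent.H158.PronMat Cfsg.Agent.H158.PronMono
open Cfsg.Agent.H158.PronFrame Cfsg.Agent.H158.PronTwo Cfsg.Agent.H158.PronAvg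
open Cfsg.Agent.H158.PronK

variable {F : Type*} [Field F]

section Om

theorem om_zpow_three (h2 : (2 : F) ≠ 0) : (om h2 : U F) ^ (3 : ℤ) = 1 := by
  rw [show (3 : ℤ) = ((3 : ℕ) : ℤ) from rfl, zpow_natCast, om_cube]

theorem om_zpow_congr (h2 : (2 : F) ≠ 0) {a b : ℤ} (h : (3 : ℤ) ∣ a - b) :
    (om h2 : U F) ^ a = om h2 ^ b := by
  obtain ⟨c, hc⟩ := h
  have : a = 3 * c + b := by omega
  rw [this, _root_.zpow_add, _root_.zpow_mul, om_zpow_three, _root_.one_zpow, one_mul]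

theorem om_zpow_cases (h2 : (2 : F) ≠ 0) (e : ℤ) :
    (om h2 : U F) ^ e = 1 ∨ (om h2 : U F) ^ e = om h2 ∨ (om h2 : U F) ^ e = (om h2)⁻¹ := by
  have h : e % 3 = 0 ∨ e % 3 = 1 ∨ e % 3 = 2 := by omega
  rcases h with h | h | h
  · left
    rw [om_zpow_congr h2 (a := e) (b := 0) (by omega), zpow_zero]
  · right; left
    rw [om_zpow_congr h2 (a := e) (b := 1) (by omega), zpow_one]
  · right; right
    rw [om_zpow_congr h2 (a := e) (b := -1) (by omega), _root_.zpow_neg_one]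

theorem om_zpow_conj_mem (h2 : (2 : F) ≠ 0) (e : ℤ) {v : U F} (hv : v ∈ Q8 F) :
    om h2 ^ e * v * (om h2 ^ e)⁻¹ ∈ Q8 F := by
  rcases om_zpow_cases h2 e with h | h | h <;> rw [h]
  · rw [one_mul, inv_one, mul_one]; exact hv
  · exact om_conj_mem h2 hv
  · rw [inv_inv]; exact om_conj_mem' h2 hv

/-- the normaliser of `Q8` -/
def N8 (F : Type*) [Field F] : Subgroup (U F) := Subgroup.normalizer ((Q8 F : Subgroup (U F)) : Set (U F))

theorem N8_conj {u : U F} (hu : u ∈ N8 F) {v : U F} (hv : v ∈ Q8 F) : u * v * u⁻¹ ∈ Q8 F :=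
  (Subgroup.mem_normalizer_iff.1 hu v).1 hv

theorem mem_N8_of [Finite F] {u : U F} (h : ∀ v ∈ Q8 F, u * v * u⁻¹ ∈ Q8 F) : u ∈ N8 F :=
  Subgroup.mem_normalizer_fintype h

theorem N8_cases (h2 : (2 : F) ≠ 0) (hns : ¬ IsSquare (2 : F)) {u : U F} (hu : u ∈ N8 F) :
    u ∈ Q8 F ∨ Half (u : ℍ[F]) := norm_Q8 h2 hns fun _ hv => N8_conj hu hv

theorem om_mem_N8 (h2 : (2 : F) ≠ 0) : om h2 ∈ N8 F := by
  rw [N8, Subgroup.mem_normalizer_iff]
  intro v
  refine ⟨fun h => om_conj_mem h2 h, fun h => ?_⟩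
  have := om_conj_mem' h2 h
  have h4 : (om h2)⁻¹ * (om h2 * v * (om h2)⁻¹) * om h2 = v := by group
  rwa [h4] at this

theorem N8_exists_eps (h2 : (2 : F) ≠ 0) (hns : ¬ IsSquare (2 : F)) {u : U F} (hu : u ∈ N8 F) :
    ∃ e : ℤ, (om h2 ^ e)⁻¹ * u ∈ Q8 F := by
  rcases N8_cases h2 hns hu with h | h
  · exact ⟨0, by rwa [zpow_zero, inv_one, one_mul]⟩
  · rcases half_mem h2 h with h | h
    · exact ⟨1, by rwa [zpow_one]⟩
    · exact ⟨-1, by rwa [_root_.zpow_neg_one, inv_inv]⟩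

theorem om_zpow_comm (h2 : (2 : F) ≠ 0) (hns : ¬ IsSquare (2 : F)) (e : ℤ) {u : U F} (hu : u ∈ N8 F) :
    om h2 ^ e * u * (om h2 ^ e)⁻¹ * u⁻¹ ∈ Q8 F := by
  have h0 := om_comm h2 (N8_cases h2 hns hu)
  rcases om_zpow_cases h2 e with h | h | h <;> rw [h]
  · rw [one_mul, inv_one, mul_one, mul_inv_cancel]; exact one_mem _
  · exact h0
  · exact Cfsg.Agent.H158.PronA.comm_aux h2 (Or.inr rfl) h0

end Om

variable {n : Type*} [Fintype n] [DecidableEq n]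

/-- diagonal matrices with entries the powers of `ω` -/
def Dom (h2 : (2 : F) ≠ 0) (ε : n → ℤ) : GU n F := D (fun b => (om h2) ^ ε b)

theorem Dom_add (h2 : (2 : F) ≠ 0) (ε δ : n → ℤ) : Dom h2 (fun b => ε b + δ b) = Dom h2 ε * Dom h2 δ := by
  rw [Dom, Dom, Dom, ← map_mul]
  congr 1
  funext b
  rw [Pi.mul_apply, _root_.zpow_add]

theorem Dom_zero (h2 : (2 : F) ≠ 0) : Dom h2 (fun _ : n => 0) = 1 := by
  rw [Dom, ← map_one D]
  congr 1

theorem Dom_neg (h2 : (2 : F) ≠ 0) (ε : n → ℤ) : Dom h2 (fun b => -ε b) = (Dom h2 ε)⁻¹ := by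
  rw [eq_inv_iff_mul_eq_one, ← Dom_add]
  simp only [neg_add_cancel]
  exact Dom_zero h2

theorem Dom_zpow (h2 : (2 : F) ≠ 0) (ε : n → ℤ) (k : ℤ) : Dom h2 (fun b => ε b * k) = (Dom h2 ε) ^ k := by
  rw [Dom, Dom, ← map_zpow]
  congr 1
  funext b
  rw [Pi.pow_apply, _root_.zpow_mul]

theorem Dom_congr (h2 : (2 : F) ≠ 0) {ε δ : n → ℤ} (h : ∀ b, (3 : ℤ) ∣ ε b - δ b) :
    Dom h2 ε = Dom h2 δ := by
  rw [Dom, Dom]
  congr 1
  funext b
  exact om_zpow_congr h2 (h b)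

theorem Dom_apply (h2 : (2 : F) ≠ 0) (ε : n → ℤ) (a b : n) :
    (Dom h2 ε).1 a b = if a = b then ((om h2 ^ ε a : U F) : ℍ[F]) else 0 := D_apply _ a b

theorem Dom_comm (h2 : (2 : F) ≠ 0) (ε δ : n → ℤ) : Dom h2 ε * Dom h2 δ = Dom h2 δ * Dom h2 ε := by
  rw [← Dom_add, ← Dom_add]
  congr 1
  funext b
  rw [add_comm]

theorem D_mono (d : n → U F) : Mono (D d).1 1 := by
  intro a b hab
  rw [D_apply, if_neg (show ¬ a = b from hab)]

theorem D_mul_apply (d : n → U F) (g : GU n F) (a b : n) : (D d * g).1 a b = d a * g.1 a b := by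
  show (Matrix.diagonal (fun a => (d a : ℍ[F])) * g.1) a b = _
  rw [Matrix.diagonal_mul]

theorem mul_D_apply (d : n → U F) (g : GU n F) (a b : n) : (g * D d).1 a b = g.1 a b * d b := by
  show (g.1 * Matrix.diagonal (fun a => (d a : ℍ[F]))) a b = _
  rw [Matrix.mul_diagonal]

theorem D_mem {W : Subgroup (U F)} (T : Subgroup (Perm n)) {d : n → U F} (hd : ∀ b, d b ∈ W) :
    D d ∈ SG W T := by
  refine ⟨1, one_mem _, D_mono d, fun b => ⟨d b, hd b, ?_⟩⟩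
  rw [D_apply, Perm.one_apply, if_pos rfl]

theorem SG_mono {W W' : Subgroup (U F)} {T T' : Subgroup (Perm n)} (hW : W ≤ W') (hT : T ≤ T') :
    SG W T ≤ SG W' T' := by
  rintro g ⟨σ, hσ, hg, hent⟩
  exact ⟨σ, hT hσ, hg, fun b => by obtain ⟨w, hw, he⟩ := hent b; exact ⟨w, hW hw, he⟩⟩

/-- conjugation by diagonal matrices -/
theorem Dom_conj (h2 : (2 : F) ≠ 0) {T : Subgroup (Perm n)} {ε : n → ℤ}
    (hε : ∀ τ ∈ T, ∀ b, ε (τ b) = ε b) {s : GU n F} (hs : s ∈ SG (Q8 F) T) :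
    Dom h2 ε * s * (Dom h2 ε)⁻¹ ∈ SG (Q8 F) T := by
  obtain ⟨σ, hσT, hσ, hent⟩ := hs
  refine ⟨σ, hσT, ?_, fun b => ?_⟩
  · intro c d hcd
    rw [← Dom_neg, Dom, Dom, mul_D_apply, D_mul_apply, hσ c d hcd, mul_zero, zero_mul]
  · obtain ⟨w, hw, hwe⟩ := hent b
    refine ⟨om h2 ^ ε b * w * (om h2 ^ ε b)⁻¹, om_zpow_conj_mem h2 _ hw, ?_⟩
    rw [← Dom_neg, Dom, Dom, mul_D_apply, D_mul_apply, ← hwe, hε σ hσT b, _root_.zpow_neg]; rfl

/-- the class of an element of the normaliser of `Q8` -/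
noncomputable def cls (h2 : (2 : F) ≠ 0) (u : U F) : ℤ := by
  classical exact if u ∈ Q8 F then 0 else if (om h2)⁻¹ * u ∈ Q8 F then 1 else -1

theorem cls_spec (h2 : (2 : F) ≠ 0) (hns : ¬ IsSquare (2 : F)) {u : U F} (hu : u ∈ N8 F) :
    (om h2 ^ cls h2 u)⁻¹ * u ∈ Q8 F := by
  classical
  unfold cls
  split_ifs with h h'
  · rwa [zpow_zero, inv_one, one_mul]
  · rwa [zpow_one]
  · rcases N8_cases h2 hns hu with h3 | h3
    · exact absurd h3 h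
    · rcases half_mem h2 h3 with h4 | h4
      · exact absurd h4 h'
      · rwa [_root_.zpow_neg_one, inv_inv]

theorem cls_congr (h2 : (2 : F) ≠ 0) {u v : U F} (h : u * v⁻¹ ∈ Q8 F) : cls h2 u = cls h2 v := by
  classical
  have e1 : u ∈ Q8 F ↔ v ∈ Q8 F := by
    constructor
    · intro hu
      have := mul_mem (inv_mem h) hu
      have e : (u * v⁻¹)⁻¹ * u = v := by group
      rwa [e] at this
    · intro hv
      have := mul_mem h hv
      rwa [inv_mul_cancel_right] at this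
  have h' : (om h2)⁻¹ * (u * v⁻¹) * om h2 ∈ Q8 F := om_conj_mem' h2 h
  have e2 : (om h2)⁻¹ * u ∈ Q8 F ↔ (om h2)⁻¹ * v ∈ Q8 F := by
    constructor
    · intro hu
      have := mul_mem (inv_mem h') hu
      have e : ((om h2)⁻¹ * (u * v⁻¹) * om h2)⁻¹ * ((om h2)⁻¹ * u) = (om h2)⁻¹ * v := by group
      rwa [e] at this
    · intro hv
      have := mul_mem h' hv
      have e : ((om h2)⁻¹ * (u * v⁻¹) * om h2) * ((om h2)⁻¹ * v) = (om h2)⁻¹ * u := by group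
      rwa [e] at this
  unfold cls
  simp only [e1, e2]

theorem uI_sq : (uI : U F) * uI = nu := by
  apply Subtype.ext; show (qi : ℍ[F]) * qi = -1; exact qi_mul_qi

theorem nu_mem : (nu : U F) ∈ Q8 F := Or.inr (Or.inl rfl)

/-- The normalizer of the wreath product of `Q8` and a Sylow 2-subgroup of the symmetric group. -/
theorem norm_SG_gen [Finite F] (h2 : (2 : F) ≠ 0) (hns : ¬ IsSquare (2 : F)) (T : Sylow 2 (Perm n)) {g : GU n F}
    (hg : g ∈ Subgroup.normalizer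
      ((SG (Q8 F) (T : Subgroup (Perm n)) : Subgroup (GU n F)) : Set (GU n F))) :
    ∃ ε : n → ℤ, (∀ τ ∈ (T : Subgroup (Perm n)), ∀ b, ε (τ b) = ε b) ∧
      (Dom h2 ε)⁻¹ * g ∈ SG (Q8 F) (T : Subgroup (Perm n)) := by
  obtain ⟨σ, hσT, hσ, hu⟩ := norm_mono h2 T ⟨uI, uI_mem, uI_sq⟩ hg
  choose u hue using fun b => hσ.entry b
  have hun : ∀ b, u b ∈ N8 F := fun b => mem_N8_of (hu b (u b) (hue b))
  -- the cosets of the entries agree
  have hstep : ∀ τ ∈ (T : Subgroup (Perm n)), ∀ b, u (τ b) * (u b)⁻¹ ∈ Q8 F := by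
    intro τ hτ b
    have h3 := (Subgroup.mem_normalizer_iff.1 hg _).1 (PM_mem (F := F) (Q8 F) hτ)
    obtain ⟨ρ, hρ, hρm, hρe⟩ := h3
    have hσi : Mono (g⁻¹).1 σ⁻¹ := by
      have := hσ.star
      rwa [← coe_inv_GU] at this
    have h4 : Mono (g * PM τ * g⁻¹).1 (σ * τ * σ⁻¹) := (hσ.mul (PM_mono τ)).mul hσi
    have h5 := hρm.unique h4
    subst h5
    obtain ⟨w, hw, hwe⟩ := hρe (σ b)
    have h6 : (σ * τ * σ⁻¹) (σ b) = σ (τ b) := by simp
    rw [h6] at hwe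
    have h7 : (g * PM τ * g⁻¹).1 (σ (τ b)) (σ b) = g.1 (σ (τ b)) (τ b) * star (g.1 (σ b) b) := by
      have h8 : (g * PM τ * g⁻¹).1 = (g.1 * (PM τ : GU n F).1) * (g⁻¹).1 := rfl
      rw [h8, hσi.mul_apply, coe_inv_GU, Matrix.conjTranspose_apply, (PM_mono τ).mul_apply]
      have h9 : σ⁻¹ (σ b) = b := by simp
      rw [h9, PM_apply, if_pos rfl, mul_one]
    rw [h7, ← hue, ← hue, ← Cfsg.Agent.H158.PronQ.coe_inv] at hwe
    have h10 : w = u (τ b) * (u b)⁻¹ := Subtype.ext hwe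
    rw [← h10]; exact hw
  have hinv : ∀ τ ∈ (T : Subgroup (Perm n)), ∀ b, cls h2 (u (τ b)) = cls h2 (u b) :=
    fun τ hτ b => cls_congr h2 (hstep τ hτ b)
  refine ⟨fun b => cls h2 (u b), hinv, σ, hσT, ?_, fun b => ⟨(om h2 ^ cls h2 (u b))⁻¹ * u b, ?_, ?_⟩⟩
  · intro c d hcd
    rw [← Dom_neg, Dom, D_mul_apply, hσ c d hcd, mul_zero]
  · exact cls_spec h2 hns (hun b)
  · rw [← Dom_neg, Dom, D_mul_apply, ← hue b, hinv σ hσT b, _root_.zpow_neg]; rfl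

/-- The diagonal matrices in the normalizer. -/
theorem Dom_mem_normalizer [Finite F] (h2 : (2 : F) ≠ 0) {T : Subgroup (Perm n)} {ε : n → ℤ}
    (hε : ∀ τ ∈ T, ∀ b, ε (τ b) = ε b) :
    Dom h2 ε ∈ Subgroup.normalizer ((SG (Q8 F) T : Subgroup (GU n F)) : Set (GU n F)) :=
  Subgroup.mem_normalizer_fintype fun _ hs => Dom_conj h2 hε hs

/-- The wreath product of `Q8` and a Sylow 2-subgroup of a symmetric group is a Sylow
2-subgroup. -/
theorem exists_sylow_gen [Finite F] (h2 : (2 : F) ≠ 0) (hns : ¬ IsSquare (2 : F))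
    (T : Sylow 2 (Perm n)) :
    ∃ S : Sylow 2 (GU n F), (S : Subgroup (GU n F)) = SG (Q8 F) (T : Subgroup (Perm n)) := by
  apply exists_sylow_eq _ (SG_isPGroup Q8_isPGroup T.isPGroup')
  rintro g hg ⟨k, hk⟩
  have hgn : g ∈ Subgroup.normalizer
      ((SG (Q8 F) (T : Subgroup (Perm n)) : Subgroup (GU n F)) : Set (GU n F)) :=
    Subgroup.mem_normalizer_fintype hg
  obtain ⟨ε, hε, hs⟩ := norm_SG_gen h2 hns T hgn
  have hcop : Nat.Coprime 3 (2 ^ k) := Nat.Coprime.pow_right k (by norm_num)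
  refine mem_of_pow_coprime _ hcop ?_ (by rw [hk]; exact one_mem _)
  have h3 : (Dom h2 ε) ^ (3 : ℤ) = (1 : GU n F) := by
    rw [← Dom_zpow, Dom_congr h2 (δ := fun _ => 0) (fun b => ⟨ε b, by ring⟩), Dom_zero]
  have h3' : (Dom h2 ε) ^ 3 = (1 : GU n F) := by exact_mod_cast h3
  set d := Dom h2 ε with hd
  set s := d⁻¹ * g with hsd
  have hgs : g = d * s := by rw [hsd]; group
  have h4 : g ^ 3 = (d * s * d⁻¹) * (d * (d * s * d⁻¹) * d⁻¹) * (d ^ 3 * s) := by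
    rw [hgs, pow_succ, pow_two, pow_succ, pow_two]; group
  rw [h4, h3', one_mul]
  exact mul_mem (mul_mem (Dom_conj h2 hε hs) (Dom_conj h2 hε (Dom_conj h2 hε hs))) hs

/-- the commutator of a diagonal matrix and a monomial matrix -/
theorem Dom_commutator (h2 : (2 : F) ≠ 0) (hns : ¬ IsSquare (2 : F)) (f : n → ℤ) {h : GU n F} {σ : Perm n}
    (hσ : Mono h.1 σ) (hent : ∀ b, ∃ w ∈ N8 F, (w : ℍ[F]) = h.1 (σ b) b) :
    ∃ d : n → U F, (∀ b, d b ∈ Q8 F) ∧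
      Dom h2 f * h * (Dom h2 f)⁻¹ * h⁻¹ = Dom h2 (fun b => f b - f (σ⁻¹ b)) * D d := by
  choose w hw hwe using hent
  refine ⟨fun b => om h2 ^ f (σ⁻¹ b) * w (σ⁻¹ b) * (om h2 ^ f (σ⁻¹ b))⁻¹ * (w (σ⁻¹ b))⁻¹,
    fun b => om_zpow_comm h2 hns _ (hw _), ?_⟩
  rw [mul_inv_eq_iff_eq_mul, ← Dom_neg]
  apply Subtype.ext
  ext1 a b
  have e1 : (Dom h2 f * h * Dom h2 (fun b => -f b)).1 a b =
      ((om h2 ^ f a : U F) : ℍ[F]) * h.1 a b * ((om h2 ^ (-f b) : U F) : ℍ[F]) := by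
    rw [Dom, Dom, mul_D_apply, D_mul_apply]
  rw [e1]
  set d : n → U F := fun b => om h2 ^ f (σ⁻¹ b) * w (σ⁻¹ b) * (om h2 ^ f (σ⁻¹ b))⁻¹ * (w (σ⁻¹ b))⁻¹ with hd
  have e2 : (Dom h2 (fun b => f b - f (σ⁻¹ b)) * D d * h).1 a b =
      ((om h2 ^ (f a - f (σ⁻¹ a)) : U F) : ℍ[F]) * ((d a : ℍ[F]) * h.1 a b) := by
    rw [mul_assoc, Dom, D_mul_apply, D_mul_apply]
  rw [e2]
  by_cases hab : a = σ b
  · subst hab
    rw [← hwe b]
    have e3 : σ⁻¹ (σ b) = b := by simp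
    have e4 : om h2 ^ (f (σ b)) * w b * om h2 ^ (-f b) =
        om h2 ^ (f (σ b) - f (σ⁻¹ (σ b))) * (d (σ b) * w b) := by
      simp only [hd, e3]
      rw [_root_.zpow_sub, _root_.zpow_neg]
      group
    exact congrArg (fun z : U F => (z : ℍ[F])) e4
  · rw [hσ a b hab]; simp

/-- the averaging argument: exponents -/
theorem avg_all (h2 : (2 : F) ≠ 0) {T : Subgroup (Perm n)} [Fintype T] {K : Subgroup (GU n F)}
    (hK : ∀ τ ∈ T, PM τ ∈ K) (ε : n → ℤ) (hε : Dom h2 ε ∈ K) :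
    Dom h2 (fun b => ∑ τ : T, ε ((τ : Perm n)⁻¹ b)) ∈ K := by
  classical
  have h1 : ∀ τ : T, Dom h2 (fun b => ε ((τ : Perm n)⁻¹ b)) ∈ K := by
    intro τ
    have h3 := mul_mem (mul_mem (hK τ τ.2) hε) (inv_mem (hK τ τ.2))
    rw [Dom, PM_conj_D] at h3
    exact h3
  have hprod : ∀ s : Finset T, Dom h2 (fun b => ∑ τ ∈ s, ε ((τ : Perm n)⁻¹ b)) ∈ K := by
    intro s
    induction s using Finset.induction_on with
    | empty =>
      simp only [Finset.sum_empty]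
      rw [Dom_zero]; exact one_mem _
    | insert τ s hτ ih =>
      have h3 := mul_mem (h1 τ) ih
      rw [← Dom_add] at h3
      have h4 : (fun b => ε ((τ : Perm n)⁻¹ b) + ∑ τ ∈ s, ε ((τ : Perm n)⁻¹ b)) =
          fun b => ∑ τ ∈ insert τ s, ε ((τ : Perm n)⁻¹ b) := by
        funext b
        rw [Finset.sum_insert hτ]
      rwa [h4] at h3
  exact hprod Finset.univ

end Cfsg.Agent.H408.Pron.Gen
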