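import Cfsg.Agent.H158.PronB

/-!
# The Sylow 2-subgroup of the symmetric group on `α ⊕ β`, `|α| = 2^a`, `|β| = 2^b` (helper408)
-/

set_option autoImplicit false
set_option linter.unusedSectionVars false

namespace Cfsg.Agent.H408.Pron.PermL

open Equiv

/-- Two 2-subgroups of `C ≤ K` can be conjugated simultaneously into `S`. -/
theorem two_into {G : Type*} [Group G] [Finite G] (S : Sylow 2 G) {K C A B : Subgroup G}
    (hSK : (S : Subgroup G) ≤ K) (hCK : C ≤ K) (hA : A ≤ C) (hB : B ≤ C) (hA2 : IsPGroup 2 A)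
    (hB2 : IsPGroup 2 B) : ∃ k ∈ K, ∃ c ∈ C, (∀ a ∈ A, k * a * k⁻¹ ∈ (S : Subgroup G)) ∧
      ∀ b ∈ B, (k * c) * b * (k * c)⁻¹ ∈ (S : Subgroup G) := by
  have hA1 : IsPGroup 2 (A.subgroupOf C) := hA2.comap_of_injective C.subtype C.subtype_injective
  have hB1 : IsPGroup 2 (B.subgroupOf C) := hB2.comap_of_injective C.subtype C.subtype_injective
  obtain ⟨R, hR⟩ := hA1.exists_le_sylow
  obtain ⟨R', hR'⟩ := hB1.exists_le_sylow
  obtain ⟨c, hc⟩ := MulAction.exists_smul_eq C R' R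
  have hRK : (R : Subgroup C).map C.subtype ≤ K := by
    rintro _ ⟨x, hx, rfl⟩
    exact hCK x.2
  obtain ⟨k, hk, hkR⟩ := Cfsg.Agent.H158.PronK.conj_into S hSK hRK (R.isPGroup'.map _)
  refine ⟨k, hk, c, c.2, fun a ha => ?_, fun b hb => ?_⟩
  · exact hkR a ⟨⟨a, hA ha⟩, hR ha, rfl⟩
  · have h1 : (⟨b, hB hb⟩ : C) ∈ (R' : Subgroup C) := hR' hb
    have h2 : c * ⟨b, hB hb⟩ * c⁻¹ ∈ (R : Subgroup C) := by
      rw [← hc, Sylow.coe_subgroup_smul, Subgroup.mem_pointwise_smul_iff_inv_smul_mem]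
      have h0 : (MulAut.conj c)⁻¹ • (c * (⟨b, hB hb⟩ : C) * c⁻¹) = ⟨b, hB hb⟩ := by
        rw [← map_inv, MulAut.smul_def, MulAut.conj_apply, inv_inv]
        group
      rw [h0]
      exact h1
    have h3 := hkR _ ⟨_, h2, rfl⟩
    have h4 : k * c * b * (k * c)⁻¹ = k * (c * b * (c : G)⁻¹) * k⁻¹ := by group
    rw [h4]
    exact h3

variable {α β : Type*} [Fintype α] [DecidableEq α] [Fintype β] [DecidableEq β]

/-- The product of `T₁` and `T₂` acting on the disjoint union. -/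
def TT (T₁ : Subgroup (Perm α)) (T₂ : Subgroup (Perm β)) : Subgroup (Perm (α ⊕ β)) :=
  (T₁.prod T₂).map (Perm.sumCongrHom α β)

theorem mem_TT {T₁ : Subgroup (Perm α)} {T₂ : Subgroup (Perm β)} {p : Perm α} {q : Perm β}
    (hp : p ∈ T₁) (hq : q ∈ T₂) : Perm.sumCongrHom α β (p, q) ∈ TT T₁ T₂ :=
  ⟨(p, q), ⟨hp, hq⟩, rfl⟩

theorem exists_of_mem_TT {T₁ : Subgroup (Perm α)} {T₂ : Subgroup (Perm β)} {σ : Perm (α ⊕ β)}
    (h : σ ∈ TT T₁ T₂) : ∃ p ∈ T₁, ∃ q ∈ T₂, (∀ x, σ (Sum.inl x) = Sum.inl (p x)) ∧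
      ∀ y, σ (Sum.inr y) = Sum.inr (q y) := by
  obtain ⟨⟨p, q⟩, ⟨hp, hq⟩, rfl⟩ := h
  exact ⟨p, hp, q, hq, fun _ => rfl, fun _ => rfl⟩

theorem TT_isPGroup {T₁ : Subgroup (Perm α)} {T₂ : Subgroup (Perm β)} (h1 : IsPGroup 2 T₁)
    (h2 : IsPGroup 2 T₂) : IsPGroup 2 (TT T₁ T₂) := by
  apply IsPGroup.map
  rintro ⟨⟨p, q⟩, hp, hq⟩
  obtain ⟨k, hk⟩ := h1 ⟨p, hp⟩
  obtain ⟨l, hl⟩ := h2 ⟨q, hq⟩
  have hk' : p ^ 2 ^ k = 1 := congrArg Subtype.val hk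
  have hl' : q ^ 2 ^ l = 1 := congrArg Subtype.val hl
  refine ⟨k + l, Subtype.ext ?_⟩
  show ((p, q) : Perm α × Perm β) ^ 2 ^ (k + l) = 1
  rw [Prod.pow_mk, Prod.mk_eq_one]
  constructor
  · rw [pow_add, pow_mul, hk', one_pow]
  · rw [pow_add, mul_comm, pow_mul, hl', one_pow]

theorem two_pow_ne {a b k : ℕ} (hab : a ≠ b) : 2 ^ a + 2 ^ b ≠ 2 ^ k := by
  wlog h : b < a generalizing a b
  · rw [add_comm]
    exact this hab.symm (by omega)
  intro he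
  obtain ⟨c, rfl⟩ : ∃ c, a = b + (c + 1) := ⟨a - b - 1, by omega⟩
  have h1 : 2 ^ b * (2 ^ (c + 1) + 1) = 2 ^ k := by rw [← he, pow_add]; ring
  have h3 : (2 ^ (c + 1) + 1) ∣ 2 ^ k := ⟨2 ^ b, by rw [← h1]; ring⟩
  obtain ⟨d, -, hd⟩ := (Nat.dvd_prime_pow Nat.prime_two).1 h3
  rcases d with _ | d
  · rw [pow_zero] at hd
    have := Nat.one_le_two_pow (n := c + 1)
    omega
  · rw [pow_succ, pow_succ] at hd
    omega

section

variable {T₁ : Sylow 2 (Perm α)} {T₂ : Sylow 2 (Perm β)} {a b : ℕ}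

/-- `TT T₁ T₂` is a Sylow 2-subgroup. -/
theorem exists_sylow_TT (hα : Fintype.card α = 2 ^ a) (hβ : Fintype.card β = 2 ^ b) (hab : a ≠ b)
    (T₁ : Sylow 2 (Perm α)) (T₂ : Sylow 2 (Perm β)) :
    ∃ T : Sylow 2 (Perm (α ⊕ β)), (T : Subgroup (Perm (α ⊕ β))) =
      TT (T₁ : Subgroup (Perm α)) (T₂ : Subgroup (Perm β)) := by
  obtain ⟨P, hP⟩ := (TT_isPGroup T₁.isPGroup' T₂.isPGroup').exists_le_sylow
  refine ⟨P, le_antisymm ?_ hP⟩
  have ht1 := Cfsg.Agent.H158.PronB.sylow_transitive hα T₁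
  have ht2 := Cfsg.Agent.H158.PronB.sylow_transitive hβ T₂
  have hl : ∀ x x' : α, ∃ τ ∈ (P : Subgroup (Perm (α ⊕ β))), τ (Sum.inl x) = Sum.inl x' := by
    intro x x'
    obtain ⟨τ, hτ, h⟩ := ht1 x x'
    exact ⟨_, hP (mem_TT hτ (one_mem _)), congrArg Sum.inl h⟩
  have hr : ∀ y y' : β, ∃ τ ∈ (P : Subgroup (Perm (α ⊕ β))), τ (Sum.inr y) = Sum.inr y' := by
    intro y y'
    obtain ⟨τ, hτ, h⟩ := ht2 y y'
    exact ⟨_, hP (mem_TT (one_mem _) hτ), congrArg Sum.inr h⟩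
  -- `P` preserves the fibres
  have hno : ∀ τ ∈ (P : Subgroup (Perm (α ⊕ β))), ∀ x y, τ (Sum.inl x) ≠ Sum.inr y := by
    intro τ hτ x y he
    have horb : MulAction.orbit (P : Subgroup (Perm (α ⊕ β))) (Sum.inl x : α ⊕ β) = Set.univ := by
      apply Set.eq_univ_of_forall
      rintro (x' | y')
      · obtain ⟨ρ, hρ, h⟩ := hl x x'
        exact ⟨⟨ρ, hρ⟩, h⟩
      · obtain ⟨ρ, hρ, h⟩ := hr y y'
        refine ⟨⟨ρ * τ, mul_mem hρ hτ⟩, ?_⟩
        show ρ (τ (Sum.inl x)) = _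
        rw [he, h]
    obtain ⟨k, hk⟩ := P.isPGroup'.card_orbit (Sum.inl x : α ⊕ β)
    rw [horb] at hk
    have hk' : Nat.card (α ⊕ β) = 2 ^ k := by
      rw [← hk]; exact (Nat.card_congr (Equiv.Set.univ _)).symm
    rw [Nat.card_eq_fintype_card, Fintype.card_sum, hα, hβ] at hk'
    exact two_pow_ne hab hk'
  have hpres : ∀ τ ∈ (P : Subgroup (Perm (α ⊕ β))), τ ∈ (Perm.sumCongrHom α β).range := by
    intro τ hτ
    apply Equiv.Perm.mem_sumCongrHom_range_of_perm_mapsTo_inl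
    rintro _ ⟨x, rfl⟩
    rcases h : τ (Sum.inl x) with x' | y'
    · exact ⟨x', rfl⟩
    · exact absurd h (hno τ hτ x y')
  -- projections
  let P' : Subgroup (Perm α × Perm β) := (P : Subgroup (Perm (α ⊕ β))).comap (Perm.sumCongrHom α β)
  have hP' : IsPGroup 2 P' := P.isPGroup'.comap_of_injective _ Perm.sumCongrHom_injective
  have h1 : P'.map (MonoidHom.fst _ _) = (T₁ : Subgroup (Perm α)) := by
    refine T₁.is_maximal' (hP'.map _) ?_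
    intro p hp
    exact ⟨(p, 1), hP (mem_TT hp (one_mem _)), rfl⟩
  have h2 : P'.map (MonoidHom.snd _ _) = (T₂ : Subgroup (Perm β)) := by
    refine T₂.is_maximal' (hP'.map _) ?_
    intro p hp
    exact ⟨(1, p), hP (mem_TT (one_mem _) hp), rfl⟩
  intro τ hτ
  obtain ⟨⟨p, q⟩, rfl⟩ := hpres τ hτ
  have hpq : (p, q) ∈ P' := hτ
  refine mem_TT ?_ ?_
  · rw [← h1]; exact ⟨_, hpq, rfl⟩
  · rw [← h2]; exact ⟨_, hpq, rfl⟩

/-- the permutation lemma -/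
theorem exists_move (hα : Fintype.card α = 2 ^ a) (hβ : Fintype.card β = 2 ^ b) (hab : b < a)
    {P : Subgroup (Perm (α ⊕ β))} (hP : TT (T₁ : Subgroup (Perm α)) (T₂ : Subgroup (Perm β)) ≤ P)
    {ρ : Perm (α ⊕ β)} (hρ : ρ ∈ P) {x : α} {y : β} (hxy : ρ (Sum.inl x) = Sum.inr y) :
    ∃ σ ∈ P, ∀ z : β, ∃ w : α, σ (Sum.inr z) = Sum.inl w := by
  obtain ⟨S, hS⟩ := exists_sylow_TT hα hβ hab.ne' T₁ T₂
  have ht1 := Cfsg.Agent.H158.PronB.sylow_transitive hα T₁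
  have ht2 := Cfsg.Agent.H158.PronB.sylow_transitive hβ T₂
  let A₁ : Subgroup (Perm (α ⊕ β)) := (T₁ : Subgroup (Perm α)).map
    ((Perm.sumCongrHom α β).comp (MonoidHom.inl _ _))
  let A₂ : Subgroup (Perm (α ⊕ β)) := (T₂ : Subgroup (Perm β)).map
    ((Perm.sumCongrHom α β).comp (MonoidHom.inr _ _))
  let C : Subgroup (Perm (α ⊕ β)) := P ⊓ MulAction.stabilizer (Perm (α ⊕ β)) (Sum.inr y : α ⊕ β)
  let A : Subgroup (Perm (α ⊕ β)) := A₂.map (MulAut.conj ρ).toMonoidHom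
  have hρi : ρ⁻¹ (Sum.inr y) = Sum.inl x := by rw [Perm.inv_eq_iff_eq]; exact hxy.symm
  obtain ⟨k, hk, c, hc, hkA, hkB⟩ := two_into S (K := P) (C := C) (A := A) (B := A₁) (hS ▸ hP)
    inf_le_left (by
      rintro _ ⟨_, ⟨q, hq, rfl⟩, rfl⟩
      have h1 : (Perm.sumCongrHom α β) (1, q) ∈ P := hP (mem_TT (one_mem _) hq)
      refine Subgroup.mem_inf.2 ⟨mul_mem (mul_mem hρ h1) (inv_mem hρ), ?_⟩
      show ρ ((Perm.sumCongrHom α β) (1, q) (ρ⁻¹ (Sum.inr y))) = Sum.inr y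
      rw [hρi]
      exact hxy) (by
      rintro _ ⟨p, hp, rfl⟩
      exact Subgroup.mem_inf.2 ⟨hP (mem_TT hp (one_mem _)), rfl⟩) ((T₂.isPGroup'.map _).map _) (T₁.isPGroup'.map _)
  rw [hS] at hkA hkB
  obtain ⟨hcP, hcy⟩ := hc
  have hcy' : c (Sum.inr y) = Sum.inr y := hcy
  -- the image of `β` under `m₁ = k ρ`
  set m₁ : Perm (α ⊕ β) := k * ρ with hm₁
  set m₂ : Perm (α ⊕ β) := k * c with hm₂
  have h1 : ∀ q ∈ (T₂ : Subgroup (Perm β)), m₁ * (Perm.sumCongrHom α β) (1, q) * m₁⁻¹ ∈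
      TT (T₁ : Subgroup (Perm α)) (T₂ : Subgroup (Perm β)) := by
    intro q hq
    have h3 := hkA (ρ * (Perm.sumCongrHom α β) (1, q) * ρ⁻¹) ⟨_, ⟨q, hq, rfl⟩, rfl⟩
    have h4 : m₁ * (Perm.sumCongrHom α β) (1, q) * m₁⁻¹ =
        k * (ρ * (Perm.sumCongrHom α β) (1, q) * ρ⁻¹) * k⁻¹ := by rw [hm₁]; group
    rw [h4]; exact h3
  have h2 : ∀ p ∈ (T₁ : Subgroup (Perm α)), m₂ * (Perm.sumCongrHom α β) (p, 1) * m₂⁻¹ ∈
      TT (T₁ : Subgroup (Perm α)) (T₂ : Subgroup (Perm β)) := by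
    intro p hp
    exact hkB _ ⟨p, hp, rfl⟩
  have hm₁P : m₁ ∈ P := mul_mem hk hρ
  -- `m₂ α = α`
  have h3 : ∀ z : α, ∃ w : α, m₂ (Sum.inl z) = Sum.inl w := by
    intro z
    by_contra hcon
    have hz : ∃ w : β, m₂ (Sum.inl z) = Sum.inr w := by
      rcases h : m₂ (Sum.inl z) with w | w
      · exact absurd ⟨w, h⟩ hcon
      · exact ⟨w, rfl⟩
    obtain ⟨w, hw⟩ := hz
    have hall : ∀ z' : α, ∃ w' : β, m₂ (Sum.inl z') = Sum.inr w' := by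
      intro z'
      obtain ⟨p, hp, rfl⟩ := ht1 z z'
      obtain ⟨p', -, q', -, -, hq'⟩ := exists_of_mem_TT (h2 p hp)
      refine ⟨q' w, ?_⟩
      rw [← hq' w, ← hw]
      show m₂ (Sum.inl (p z)) = m₂ ((Perm.sumCongrHom α β) (p, 1) (m₂⁻¹ (m₂ (Sum.inl z))))
      have e : m₂⁻¹ (m₂ (Sum.inl z)) = Sum.inl z := by simp
      rw [e]
      rfl
    choose f hf using hall
    have hinj : Function.Injective f := by
      intro u v huv
      have h5 : m₂ (Sum.inl u) = m₂ (Sum.inl v) := by rw [hf, hf, huv]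
      exact Sum.inl_injective (m₂.injective h5)
    have h5 := Fintype.card_le_of_injective f hinj
    rw [hα, hβ] at h5
    exact absurd (Nat.pow_lt_pow_right (by norm_num : 1 < 2) hab) (by omega)
  by_cases h4 : ∃ z : β, ∃ w : α, m₁ (Sum.inr z) = Sum.inl w
  · obtain ⟨z, w, hw⟩ := h4
    refine ⟨m₁, hm₁P, fun z' => ?_⟩
    obtain ⟨q, hq, rfl⟩ := ht2 z z'
    obtain ⟨p', -, q', -, hp', -⟩ := exists_of_mem_TT (h1 q hq)
    refine ⟨p' w, ?_⟩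
    rw [← hp' w, ← hw]
    show m₁ (Sum.inr (q z)) = m₁ ((Perm.sumCongrHom α β) (1, q) (m₁⁻¹ (m₁ (Sum.inr z))))
    have e : m₁⁻¹ (m₁ (Sum.inr z)) = Sum.inr z := by simp
    rw [e]
    rfl
  · exfalso
    have h5 : ∀ z : β, ∃ w : β, m₁ (Sum.inr z) = Sum.inr w := by
      intro z
      rcases h : m₁ (Sum.inr z) with w | w
      · exact absurd ⟨z, w, h⟩ h4
      · exact ⟨w, rfl⟩
    -- `m₁ α = α`
    have h6 : ∃ w : α, k (Sum.inr y) = Sum.inl w := by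
      have h7 : k (Sum.inr y) = m₁ (Sum.inl x) := by
        show _ = k (ρ (Sum.inl x))
        rw [hxy]
      rw [h7]
      rcases h : m₁ (Sum.inl x) with w | w
      · exact ⟨w, rfl⟩
      · exfalso
        choose f hf using h5
        have hinj : Function.Injective f := by
          intro u v huv
          have h5 : m₁ (Sum.inr u) = m₁ (Sum.inr v) := by rw [hf, hf, huv]
          exact Sum.inr_injective (m₁.injective h5)
        obtain ⟨u, hu⟩ := (Finite.injective_iff_surjective.1 hinj) w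
        have h8 : m₁ (Sum.inr u) = m₁ (Sum.inl x) := by rw [hf, hu, h]
        exact Sum.inr_ne_inl (m₁.injective h8)
    obtain ⟨w, hw⟩ := h6
    -- but `m₂ y = k y`
    have h7 : m₂ (Sum.inr y) = Sum.inl w := by
      show k (c (Sum.inr y)) = _
      rw [hcy', hw]
    choose f hf using h3
    have hinj : Function.Injective f := by
      intro u v huv
      have h5 : m₂ (Sum.inl u) = m₂ (Sum.inl v) := by rw [hf, hf, huv]
      exact Sum.inl_injective (m₂.injective h5)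
    obtain ⟨u, hu⟩ := (Finite.injective_iff_surjective.1 hinj) w
    have h8 : m₂ (Sum.inl u) = m₂ (Sum.inr y) := by rw [hf, hu, h7]
    exact Sum.inl_ne_inr (m₂.injective h8)

end

/-- The averaging identity. -/
theorem sum_avg {T : Subgroup (Perm α)} [Fintype T] (hT : ∀ x y : α, ∃ τ ∈ T, τ x = y) (f : α → ℤ) (x : α) :
    (∑ τ : T, f ((τ : Perm α)⁻¹ x)) * (Fintype.card α : ℤ) = (Fintype.card T : ℤ) * ∑ y, f y := by
  have hcc : ∀ a b, (∑ τ : T, f ((τ : Perm α)⁻¹ a)) = ∑ τ : T, f ((τ : Perm α)⁻¹ b) := by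
    intro a b
    obtain ⟨ρ, hρ, rfl⟩ := hT b a
    refine Fintype.sum_equiv (Equiv.mulLeft (⟨ρ, hρ⟩ : T)⁻¹) _ _ (fun τ => ?_)
    simp only [Equiv.coe_mulLeft, Subgroup.coe_mul, Subgroup.coe_inv, _root_.mul_inv_rev, inv_inv,
      Perm.mul_apply]
  have h3 : ∑ b, (∑ τ : T, f ((τ : Perm α)⁻¹ b)) = Fintype.card α * ∑ τ : T, f ((τ : Perm α)⁻¹ x) := by
    rw [Finset.sum_congr rfl (fun b _ => hcc b x), Finset.sum_const, Finset.card_univ,
      nsmul_eq_mul]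
  rw [mul_comm, ← h3, Finset.sum_comm]
  have h4 : ∀ τ : T, ∑ b, f ((τ : Perm α)⁻¹ b) = ∑ b, f b := fun τ =>
    Equiv.sum_comp ((τ : Perm α)⁻¹) f
  rw [Finset.sum_congr rfl (fun τ _ => h4 τ), Finset.sum_const, Finset.card_univ,
    nsmul_eq_mul]

end Cfsg.Agent.H408.Pron.PermL
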