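import Cfsg.Agent.H408.Pron.Gen
import Cfsg.Agent.H408.Pron.PermL

/-!
# Averaging over the two fibres (helper408)
-/

set_option autoImplicit false
set_option linter.unusedSectionVars false

namespace Cfsg.Agent.H408.Pron.AvgTwo

open Quaternion Matrix Equiv
open Cfsg.Agent.H158.PronQ Cfsg.Agent.H158.PronMat Cfsg.Agent.H158.PronMono
open Cfsg.Agent.H158.PronFrame Cfsg.Agent.H158.PronTwo Cfsg.Agent.H158.PronAvg
open Cfsg.Agent.H158.PronK
open Cfsg.Agent.H408.Pron.Gen Cfsg.Agent.H408.Pron.PermL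

variable {F : Type*} [Field F]
variable {α β : Type*} [Fintype α] [DecidableEq α] [Fintype β] [DecidableEq β]

/-- `ω^x` on `α`, `ω^y` on `β`. -/
def Om (h2 : (2 : F) ≠ 0) (x y : ℤ) : GU (α ⊕ β) F := Dom h2 (Sum.elim (fun _ => x) (fun _ => y))

theorem Om_add (h2 : (2 : F) ≠ 0) (x y x' y' : ℤ) :
    (Om h2 (x + x') (y + y') : GU (α ⊕ β) F) = Om h2 x y * Om h2 x' y' := by
  rw [Om, Om, Om, ← Dom_add]
  congr 1
  funext b
  rcases b with b | b <;> rfl

theorem Om_mul (h2 : (2 : F) ≠ 0) (x y k : ℤ) :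
    (Om h2 (x * k) (y * k) : GU (α ⊕ β) F) = (Om h2 x y) ^ k := by
  rw [Om, Om, ← Dom_zpow]
  congr 1
  funext b
  rcases b with b | b <;> rfl

theorem Om_congr (h2 : (2 : F) ≠ 0) {x y x' y' : ℤ} (hx : (3 : ℤ) ∣ x - x') (hy : (3 : ℤ) ∣ y - y') :
    (Om h2 x y : GU (α ⊕ β) F) = Om h2 x' y' := by
  apply Dom_congr
  rintro (b | b)
  · exact hx
  · exact hy

theorem Om_zero (h2 : (2 : F) ≠ 0) : (Om h2 0 0 : GU (α ⊕ β) F) = 1 := by
  rw [Om, ← Dom_zero h2]
  congr 1
  funext b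
  rcases b with b | b <;> rfl

theorem two_pow_mod (a : ℕ) : (3 : ℤ) ∣ 2 ^ a - 1 ∨ (3 : ℤ) ∣ 2 ^ a + 1 := by
  induction a with
  | zero => left; norm_num
  | succ a ih =>
    rw [pow_succ]
    rcases ih with h | h
    · right; omega
    · left; omega

theorem four_pow_mod (a : ℕ) : (3 : ℤ) ∣ 2 ^ (2 * a) - 1 := by
  induction a with
  | zero => norm_num
  | succ a ih =>
    rw [show 2 * (a + 1) = 2 * a + 2 by ring, pow_add]
    omega

theorem two_pow_congr {a b : ℕ} (h : a % 2 = b % 2) : (3 : ℤ) ∣ 2 ^ a - 2 ^ b := by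
  wlog hab : b ≤ a generalizing a b
  · have := this h.symm (by omega)
    omega
  obtain ⟨c, rfl⟩ : ∃ c, a = b + 2 * c := ⟨(a - b) / 2, by omega⟩
  rw [pow_add]
  obtain ⟨d, hd⟩ := four_pow_mod c
  exact ⟨2 ^ b * d, by linear_combination (2 : ℤ) ^ b * hd⟩

/-- The averaging lemma on two fibres. -/
theorem avg2 (h2 : (2 : F) ≠ 0) {a b : ℕ} (hα : Fintype.card α = 2 ^ a) (hβ : Fintype.card β = 2 ^ b)
    (hpar : a % 2 = b % 2) (T₁ : Sylow 2 (Perm α)) (T₂ : Sylow 2 (Perm β)) {K : Subgroup (GU (α ⊕ β) F)}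
    (hK : SG (Q8 F) (TT (T₁ : Subgroup (Perm α)) (T₂ : Subgroup (Perm β))) ≤ K) {ε : α ⊕ β → ℤ}
    (hε : Dom h2 ε ∈ K) : Om h2 (∑ x, ε (Sum.inl x)) (∑ y, ε (Sum.inr y)) ∈ K := by
  classical
  have : Fintype (T₁ : Subgroup (Perm α)) := Fintype.ofFinite _
  have : Fintype (T₂ : Subgroup (Perm β)) := Fintype.ofFinite _
  have ht1 := Cfsg.Agent.H158.PronB.sylow_transitive hα T₁
  have ht2 := Cfsg.Agent.H158.PronB.sylow_transitive hβ T₂
  set c₁ : α → ℤ := fun x => ∑ τ : (T₁ : Subgroup (Perm α)), ε (Sum.inl ((τ : Perm α)⁻¹ x)) with hc₁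
  set c₂ : β → ℤ := fun y => ∑ τ : (T₂ : Subgroup (Perm β)), ε (Sum.inr ((τ : Perm β)⁻¹ y)) with hc₂
  set t₁ : ℤ := (Fintype.card (T₁ : Subgroup (Perm α)) : ℤ) with ht₁
  set t₂ : ℤ := (Fintype.card (T₂ : Subgroup (Perm β)) : ℤ) with ht₂
  -- first step
  have s1 : Dom h2 (Sum.elim c₁ (fun y => ε (Sum.inr y) * t₁)) ∈ K := by
    have h1 : ∀ τ : (T₁ : Subgroup (Perm α)),
        Dom h2 (Sum.elim (fun x => ε (Sum.inl ((τ : Perm α)⁻¹ x))) (fun y => ε (Sum.inr y))) ∈ K := by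
      intro τ
      have hp : PM (Perm.sumCongrHom α β ((τ : Perm α), 1)) ∈ K := hK (PM_mem _ (mem_TT τ.2 (one_mem _)))
      have h3 := mul_mem (mul_mem hp hε) (inv_mem hp)
      rw [Dom, PM_conj_D] at h3
      rw [Dom]
      convert h3 using 2
      funext b
      rcases b with b | b <;> rfl
    have hprod : ∀ s : Finset (T₁ : Subgroup (Perm α)),
        Dom h2 (Sum.elim (fun x => ∑ τ ∈ s, ε (Sum.inl ((τ : Perm α)⁻¹ x)))
          (fun y => ε (Sum.inr y) * (s.card : ℤ))) ∈ K := by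
      intro s
      induction s using Finset.induction_on with
      | empty =>
        have e : (Sum.elim (fun x => ∑ τ ∈ (∅ : Finset (T₁ : Subgroup (Perm α))), ε (Sum.inl ((τ : Perm α)⁻¹ x)))
            (fun y => ε (Sum.inr y) * (((∅ : Finset (T₁ : Subgroup (Perm α))).card : ℕ) : ℤ))) =
            fun _ : α ⊕ β => (0 : ℤ) := by
          funext b
          rcases b with b | b <;> simp
        rw [e, Dom_zero]; exact one_mem _
      | insert τ s hτ ih =>
        have h3 := mul_mem (h1 τ) ih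
        rw [← Dom_add] at h3
        convert h3 using 2
        funext b
        rcases b with b | b
        · simp [Finset.sum_insert hτ]
        · simp [Finset.card_insert_of_notMem hτ]; ring
    have := hprod Finset.univ
    rw [Finset.card_univ] at this
    exact this
  -- second step
  have s2 : Dom h2 (Sum.elim (fun x => c₁ x * t₂) (fun y => c₂ y * t₁)) ∈ K := by
    have h1 : ∀ τ : (T₂ : Subgroup (Perm β)),
        Dom h2 (Sum.elim (fun x => c₁ x) (fun y => ε (Sum.inr ((τ : Perm β)⁻¹ y)) * t₁)) ∈ K := by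
      intro τ
      have hp : PM (Perm.sumCongrHom α β (1, (τ : Perm β))) ∈ K := hK (PM_mem _ (mem_TT (one_mem _) τ.2))
      have h3 := mul_mem (mul_mem hp s1) (inv_mem hp)
      rw [Dom, PM_conj_D] at h3
      rw [Dom]
      convert h3 using 2
      funext b
      rcases b with b | b <;> rfl
    have hprod : ∀ s : Finset (T₂ : Subgroup (Perm β)),
        Dom h2 (Sum.elim (fun x => c₁ x * (s.card : ℤ))
          (fun y => (∑ τ ∈ s, ε (Sum.inr ((τ : Perm β)⁻¹ y))) * t₁)) ∈ K := by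
      intro s
      induction s using Finset.induction_on with
      | empty =>
        have e : (Sum.elim (fun x => c₁ x * (((∅ : Finset (T₂ : Subgroup (Perm β))).card : ℕ) : ℤ))
            (fun y => (∑ τ ∈ (∅ : Finset (T₂ : Subgroup (Perm β))), ε (Sum.inr ((τ : Perm β)⁻¹ y))) * t₁)) =
            fun _ : α ⊕ β => (0 : ℤ) := by
          funext b
          rcases b with b | b <;> simp
        rw [e, Dom_zero]; exact one_mem _
      | insert τ s hτ ih =>
        have h3 := mul_mem (h1 τ) ih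
        rw [← Dom_add] at h3
        convert h3 using 2
        funext b
        rcases b with b | b
        · simp [Finset.card_insert_of_notMem hτ]; ring
        · simp [Finset.sum_insert hτ]; ring
    have := hprod Finset.univ
    rw [Finset.card_univ] at this
    exact this
  -- the exponents
  set A := ∑ x, ε (Sum.inl x) with hA
  set B := ∑ y, ε (Sum.inr y) with hB
  have e1 : ∀ x, c₁ x * 2 ^ a = t₁ * A := by
    intro x
    have := sum_avg ht1 (fun x => ε (Sum.inl x)) x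
    rw [hα] at this
    push_cast at this
    exact this
  have e2 : ∀ y, c₂ y * 2 ^ b = t₂ * B := by
    intro y
    have := sum_avg ht2 (fun x => ε (Sum.inr x)) y
    rw [hβ] at this
    push_cast at this
    exact this
  obtain ⟨k₁, hk₁⟩ := IsPGroup.iff_card.1 T₁.isPGroup'
  obtain ⟨k₂, hk₂⟩ := IsPGroup.iff_card.1 T₂.isPGroup'
  have f1 : t₁ = 2 ^ k₁ := by
    rw [ht₁, ← Nat.card_eq_fintype_card]
    exact_mod_cast hk₁
  have f2 : t₂ = 2 ^ k₂ := by
    rw [ht₂, ← Nat.card_eq_fintype_card]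
    exact_mod_cast hk₂
  have s3 := zpow_mem s2 ((2 : ℤ) ^ (k₁ + k₂ + a))
  rw [← Dom_zpow] at s3
  have e3 : Dom h2 (fun i => Sum.elim (fun x => c₁ x * t₂) (fun y => c₂ y * t₁) i * (2 : ℤ) ^ (k₁ + k₂ + a)) =
      (Om h2 A B : GU (α ⊕ β) F) := by
    obtain ⟨u, hu⟩ := four_pow_mod (k₁ + k₂)
    rw [two_mul, pow_add] at hu
    obtain ⟨v, hv⟩ := two_pow_congr hpar
    apply Dom_congr
    rintro (x | y)
    · simp only [Sum.elim_inl]
      refine ⟨A * u, ?_⟩
      have := e1 x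
      rw [f1] at this
      rw [f2, pow_add, show c₁ x * 2 ^ k₂ * (2 ^ (k₁ + k₂) * 2 ^ a) = (c₁ x * 2 ^ a) * 2 ^ k₂ * 2 ^ (k₁ + k₂) by ring,
        this]
      rw [pow_add] at hu ⊢
      linear_combination A * hu
    · simp only [Sum.elim_inr]
      have := e2 y
      rw [f2] at this
      refine ⟨B * u + c₂ y * 2 ^ k₁ * 2 ^ (k₁ + k₂) * v, ?_⟩
      rw [f1, pow_add]
      rw [pow_add] at hu ⊢
      linear_combination B * hu + c₂ y * 2 ^ k₁ * (2 ^ k₁ * 2 ^ k₂) * hv + 2 ^ k₁ * (2 ^ k₁ * 2 ^ k₂) * this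
  rwa [e3] at s3

end Cfsg.Agent.H408.Pron.AvgTwo
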