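import Cfsg.Agent.H408.Pron.AvgTwo
import Cfsg.Agent.H408.Pron.Defs

/-!
# The block subgroup (helper408)
-/

set_option autoImplicit false
set_option linter.unusedSectionVars false

namespace Cfsg.Agent.H408.Pron.Block

open Quaternion Matrix Equiv
open Cfsg.Agent.H158.PronQ Cfsg.Agent.H158.PronMat Cfsg.Agent.H158.PronMono
open Cfsg.Agent.H408.Pron Cfsg.Agent.H94.Pronormal

section Abstract

variable {G B : Type*} [Group G] [Group B]

/-- Pronormality inside a subgroup. -/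
theorem of_range (f : B →* G) (hB : PO B) {H : Subgroup G} (hH : Odd H.index) (hHr : H ≤ f.range)
    {g : G} (hg : g ∈ f.range) :
    ∃ x ∈ H ⊔ H.map (MulAut.conj g).toMonoidHom,
      H.map (MulAut.conj g).toMonoidHom = H.map (MulAut.conj x).toMonoidHom := by
  obtain ⟨b, rfl⟩ := hg
  have h1 : Odd (H.comap f).index := by
    rw [Subgroup.index_comap]
    exact Odd.of_dvd_nat hH (Dvd.intro _ (Subgroup.relIndex_mul_index hHr))
  obtain ⟨x, hx, hxe⟩ := hB _ h1 b
  have h2 : ∀ y : B, ((H.comap f).map (MulAut.conj y).toMonoidHom).map f =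
      H.map (MulAut.conj (f y)).toMonoidHom := by
    intro y
    ext z
    constructor
    · rintro ⟨_, ⟨w, hw, rfl⟩, rfl⟩
      exact ⟨f w, hw, by simp⟩
    · rintro ⟨w, hw, rfl⟩
      obtain ⟨v, rfl⟩ := hHr hw
      exact ⟨_, ⟨v, hw, rfl⟩, by simp⟩
  refine ⟨f x, ?_, ?_⟩
  · have h3 : f x ∈ ((H.comap f) ⊔ (H.comap f).map (MulAut.conj b).toMonoidHom).map f := ⟨x, hx, rfl⟩
    rw [Subgroup.map_sup, h2] at h3
    exact (sup_le_sup_right (Subgroup.map_comap_le f H) _) h3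
  · rw [← h2, ← h2, hxe]

theorem PO.of_surjective (f : G →* B) (hf : Function.Surjective f) (h : PO G) : PO B := by
  intro H hH g
  obtain ⟨g, rfl⟩ := hf g
  have h1 : Odd (H.comap f).index := by
    rw [Subgroup.index_comap_of_surjective _ hf]; exact hH
  obtain ⟨x, hx, he⟩ := h _ h1 g
  have h2 : ∀ y : G, ((H.comap f).map (MulAut.conj y).toMonoidHom).map f =
      H.map (MulAut.conj (f y)).toMonoidHom := by
    intro y
    ext z
    constructor
    · rintro ⟨_, ⟨w, hw, rfl⟩, rfl⟩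
      exact ⟨f w, hw, by simp⟩
    · rintro ⟨w, hw, rfl⟩
      obtain ⟨v, rfl⟩ := hf w
      exact ⟨_, ⟨v, hw, rfl⟩, by simp⟩
  refine ⟨f x, ?_, ?_⟩
  · have h3 : f x ∈ ((H.comap f) ⊔ (H.comap f).map (MulAut.conj g).toMonoidHom).map f := ⟨x, hx, rfl⟩
    rw [Subgroup.map_sup, h2] at h3
    exact (sup_le_sup_right (Subgroup.map_comap_le f H) _) h3
  · rw [← h2, ← h2, he]

end Abstract

variable {F : Type*} [Field F]
variable {α β : Type*} [Fintype α] [DecidableEq α] [Fintype β] [DecidableEq β]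

/-- The block diagonal matrices. -/
def blk : GU α F × GU β F →* GU (α ⊕ β) F where
  toFun p := ⟨Matrix.fromBlocks p.1.1 0 0 p.2.1, by
    rw [mem_GU, Matrix.fromBlocks_conjTranspose, Matrix.fromBlocks_multiply, Matrix.fromBlocks_multiply]
    simp only [star_mul_coe, coe_mul_star, Matrix.conjTranspose_zero, Matrix.mul_zero, Matrix.zero_mul,
      add_zero, zero_add, Matrix.fromBlocks_one, and_self]⟩
  map_one' := Subtype.ext Matrix.fromBlocks_one
  map_mul' p q := by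
    apply Subtype.ext
    show Matrix.fromBlocks (p.1.1 * q.1.1) 0 0 (p.2.1 * q.2.1) =
      Matrix.fromBlocks p.1.1 0 0 p.2.1 * Matrix.fromBlocks q.1.1 0 0 q.2.1
    rw [Matrix.fromBlocks_multiply]
    simp

/-- the matrix is block diagonal -/
def IsBlk (g : GU (α ⊕ β) F) : Prop :=
  (∀ x y, g.1 (Sum.inl x) (Sum.inr y) = 0) ∧ ∀ y x, g.1 (Sum.inr y) (Sum.inl x) = 0

theorem mem_range_blk {g : GU (α ⊕ β) F} (hg : IsBlk g) : g ∈ (blk : GU α F × GU β F →* GU (α ⊕ β) F).range := by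
  have h12 : g.1.toBlocks₁₂ = 0 := by ext1 x y; exact hg.1 x y
  have h21 : g.1.toBlocks₂₁ = 0 := by ext1 x y; exact hg.2 x y
  have hfb := Matrix.fromBlocks_toBlocks g.1
  rw [h12, h21] at hfb
  have h1 := star_mul_coe g
  have h3 := coe_mul_star g
  rw [← hfb, Matrix.fromBlocks_conjTranspose, Matrix.fromBlocks_multiply, ← Matrix.fromBlocks_one,
    Matrix.fromBlocks_inj] at h1 h3
  simp only [Matrix.conjTranspose_zero, Matrix.mul_zero, Matrix.zero_mul, add_zero, zero_add] at h1 h3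
  refine ⟨(⟨g.1.toBlocks₁₁, mem_GU.2 ⟨h1.1, h3.1⟩⟩, ⟨g.1.toBlocks₂₂, mem_GU.2 ⟨h1.2.2.2, h3.2.2.2⟩⟩), ?_⟩
  apply Subtype.ext
  exact hfb

theorem isBlk_of_mem {g : GU (α ⊕ β) F} (hg : g ∈ (blk : GU α F × GU β F →* GU (α ⊕ β) F).range) : IsBlk g := by
  obtain ⟨p, rfl⟩ := hg
  exact ⟨fun _ _ => rfl, fun _ _ => rfl⟩

end Cfsg.Agent.H408.Pron.Block
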