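import Cfsg.Agent.H408.Pron.Frame
import Cfsg.Agent.H408.Pron.Block

/-!
# Odd index subgroups of `GU (α ⊕ β) F`, `|α| = 2^a`, `|β| = 2^b`, `a ≡ b mod 2` (helper408)
-/

set_option autoImplicit false
set_option linter.unusedSectionVars false

namespace Cfsg.Agent.H408.Pron.Cases

open Quaternion Matrix Equiv
open Cfsg.Agent.H158.PronQ Cfsg.Agent.H158.PronMat Cfsg.Agent.H158.PronMono
open Cfsg.Agent.H158.PronFrame Cfsg.Agent.H158.PronTwo Cfsg.Agent.H158.PronAvg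
open Cfsg.Agent.H158.PronK Cfsg.Agent.H158.PronP Cfsg.Agent.H158.PronT Cfsg.Agent.H158.PronH
open Cfsg.Agent.H158.PronG Cfsg.Agent.H158.PronM2 Cfsg.Agent.H94.Pronormal
open Cfsg.Agent.H408.Pron Cfsg.Agent.H408.Pron.Gen Cfsg.Agent.H408.Pron.PermL
open Cfsg.Agent.H408.Pron.AvgTwo Cfsg.Agent.H408.Pron.Frame Cfsg.Agent.H408.Pron.Block

section Abstract

theorem mem_of_zpow {G : Type*} [Group G] {K : Subgroup G} {g : G} (h3 : g ^ (3 : ℤ) = 1) {m : ℤ}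
    (hm : ¬ (3 : ℤ) ∣ m) (h : g ^ m ∈ K) : g ∈ K := by
  have h1 : m % 3 = 1 ∨ m % 3 = 2 := by omega
  rcases h1 with h1 | h1
  · have e : m = 3 * (m / 3) + 1 := by omega
    rw [e, _root_.zpow_add, _root_.zpow_mul, h3, _root_.one_zpow, one_mul, zpow_one] at h
    exact h
  · have e : m = 3 * (m / 3 + 1) + -1 := by omega
    rw [e, _root_.zpow_add, _root_.zpow_mul, h3, _root_.one_zpow, one_mul, _root_.zpow_neg_one] at h
    exact inv_mem_iff.1 h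

end Abstract

variable {F : Type*} [Field F]

section Mon

variable {n : Type*} [Fintype n] [DecidableEq n]

theorem Rj_om (h2 : (2 : F) ≠ 0) (j : n) : Rj j (om h2) = Dom h2 (fun c => if c = j then 1 else 0) := by
  rw [Rj_eq_D, Dom]
  congr 1
  funext c
  split_ifs <;> simp

/-- the permutations of the monomial elements of `H` -/
def Pm (H : Subgroup (GU n F)) : Subgroup (Perm n) where
  carrier := {σ | ∃ m ∈ H, Mono m.1 σ}
  one_mem' := ⟨1, one_mem _, Mono.one⟩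
  mul_mem' := by
    rintro σ τ ⟨m, hm, hσ⟩ ⟨k, hk, hτ⟩
    exact ⟨m * k, mul_mem hm hk, hσ.mul hτ⟩
  inv_mem' := by
    rintro σ ⟨m, hm, hσ⟩
    refine ⟨m⁻¹, inv_mem hm, ?_⟩
    rw [coe_inv_GU]
    exact hσ.star

theorem mem_Pm {H : Subgroup (GU n F)} {σ : Perm n} : σ ∈ Pm H ↔ ∃ m ∈ H, Mono m.1 σ := Iff.rfl

theorem le_Pm {W : Subgroup (U F)} {T : Subgroup (Perm n)} {H : Subgroup (GU n F)} (h : SG W T ≤ H) :
    T ≤ Pm H := fun σ hσ => ⟨PM σ, h (PM_mem W hσ), PM_mono σ⟩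

/-- An element conjugating the base group into the wreath product is monomial. -/
theorem mono_of_base [Finite F] (h2 : (2 : F) ≠ 0) {T : Subgroup (Perm n)} {g : GU n F}
    (hg : ∀ b, ∀ w ∈ Q8 F, g * Rj b w * g⁻¹ ∈ SG (Q8 F) T) :
    ∃ σ : Perm n, Mono g.1 σ ∧ ∀ b, ∃ w ∈ N8 F, (w : ℍ[F]) = g.1 (σ b) b := by
  have h1 : ∀ b, ∃ j, ∀ a, a ≠ j → g.1 a b = 0 := by
    intro b
    have hx : ip (g.1 *ᵥ e b) (g.1 *ᵥ e b) = 1 := by rw [ip_act, ip_e_e]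
    have hz : R (g.1 *ᵥ e b) hx nu = (g * Rj b uI * g⁻¹) * (g * Rj b uI * g⁻¹) := by
      rw [← R_conj g (e b) (ip_e_e b) hx nu, ← uI_sq]
      show g * Rj b (uI * uI) * g⁻¹ = _
      rw [map_mul]; group
    have hy := hg b uI uI_mem
    have hzS : R (g.1 *ᵥ e b) hx nu ∈ SG (Q8 F) T := by rw [hz]; exact mul_mem hy hy
    rcases rf_mem_SG h2 hzS with ⟨j, hj⟩ | ⟨a, c, hac, -, hm, -⟩
    · refine ⟨j, fun a ha => ?_⟩
      have := hj a ha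
      rwa [Cfsg.Agent.H158.PronMono.mulVec_e] at this
    · exfalso
      obtain ⟨τ, -, hτ, -⟩ := hy
      have hm' : Mono (R (g.1 *ᵥ e b) hx nu).1 (τ * τ) := by
        rw [hz]; exact hτ.mul hτ
      exact sq_ne_swap hac (hm'.unique hm)
  obtain ⟨σ, hσ⟩ := Cfsg.Agent.H158.PronA.mono_of_cols h1
  refine ⟨σ, hσ, fun b => ?_⟩
  obtain ⟨u, hu⟩ := hσ.entry b
  refine ⟨u, mem_N8_of fun w hw => ?_, hu⟩
  have h3 := hg b w hw
  rw [hσ.conj_Rj b hu] at h3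
  exact mem_of_Rj_mem h3

theorem Rj_nu_injective (h2 : (2 : F) ≠ 0) {i j : n} (h : (Rj i nu : GU n F) = Rj j nu) : i = j := by
  by_contra hij
  have h1 := congrFun (congrFun (congrArg Subtype.val h) i) i
  rw [Rj_apply, Rj_apply, if_pos rfl, if_pos rfl, if_pos rfl, if_neg hij, coe_nu] at h1
  have h4 : (2 : ℍ[F]) * 1 = 0 := by rw [two_mul]; nth_rw 1 [← h1]; simp
  exact one_ne_zero (two_ne h2 h4)

theorem conj_nu (u : U F) : u * nu * u⁻¹ = nu := by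
  apply Subtype.ext
  rw [Submonoid.coe_mul, Submonoid.coe_mul, coe_nu, mul_neg, mul_one, neg_mul]
  congr 1
  exact congrArg Subtype.val (mul_inv_cancel u)

end Mon

variable [Finite F]
variable {α β : Type*} [Fintype α] [DecidableEq α] [Fintype β] [DecidableEq β]

/-- The data. -/
structure Dat (F : Type*) [Field F] (α β : Type*) [Fintype α] [DecidableEq α] [Fintype β] [DecidableEq β] where
  h2 : (2 : F) ≠ 0
  hns : ¬ IsSquare (2 : F)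
  a : ℕ
  b : ℕ
  hα : Fintype.card α = 2 ^ a
  hβ : Fintype.card β = 2 ^ b
  hpar : a % 2 = b % 2
  hab : b < a
  T₁ : Sylow 2 (Perm α)
  T₂ : Sylow 2 (Perm β)
  T : Sylow 2 (Perm (α ⊕ β))
  hT : (T : Subgroup (Perm (α ⊕ β))) = TT (T₁ : Subgroup (Perm α)) (T₂ : Subgroup (Perm β))

namespace Dat

variable (X : Dat F α β)

theorem OmCube (x y : ℤ) : (Om X.h2 x y : GU (α ⊕ β) F) ^ (3 : ℤ) = 1 := by
  rw [← Om_mul, Om_congr X.h2 (x' := 0) (y' := 0) ⟨x, by ring⟩ ⟨y, by ring⟩, Om_zero]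

theorem Om_eq (x y : ℤ) : (Om X.h2 x y : GU (α ⊕ β) F) = (Om X.h2 1 0) ^ x * (Om X.h2 0 1) ^ y := by
  rw [← Om_mul, ← Om_mul, ← Om_add]
  congr 1 <;> ring

theorem hta (x y : α) : ∃ τ ∈ (X.T₁ : Subgroup (Perm α)), τ x = y :=
  Cfsg.Agent.H158.PronB.sylow_transitive X.hα X.T₁ x y

theorem htb (x y : β) : ∃ τ ∈ (X.T₂ : Subgroup (Perm β)), τ x = y :=
  Cfsg.Agent.H158.PronB.sylow_transitive X.hβ X.T₂ x y

theorem swap_fibre {i j : α ⊕ β} (h : swap i j ∈ (X.T : Subgroup (Perm (α ⊕ β)))) :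
    (∃ x y, i = Sum.inl x ∧ j = Sum.inl y) ∨ ∃ x y, i = Sum.inr x ∧ j = Sum.inr y := by
  rw [X.hT] at h
  obtain ⟨p, -, q, -, hp, hq⟩ := exists_of_mem_TT h
  rcases i with x | x
  · left
    have := hp x
    rw [swap_apply_left] at this
    exact ⟨x, _, rfl, this⟩
  · right
    have := hq x
    rw [swap_apply_left] at this
    exact ⟨x, _, rfl, this⟩

variable {K : Subgroup (GU (α ⊕ β) F)} (hK : SG (Q8 F) (X.T : Subgroup (Perm (α ⊕ β))) ≤ K)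

include hK

theorem avg {ε : α ⊕ β → ℤ} (hε : Dom X.h2 ε ∈ K) :
    Om X.h2 (∑ x, ε (Sum.inl x)) (∑ y, ε (Sum.inr y)) ∈ K :=
  avg2 X.h2 X.hα X.hβ X.hpar X.T₁ X.T₂ (X.hT ▸ hK) hε

theorem left_Rj {x : α} (h : Rj (Sum.inl x) (om X.h2) ∈ K) : Om X.h2 1 0 ∈ K := by
  rw [Rj_om] at h
  have := X.avg hK h
  simpa using this

theorem right_Rj {y : β} (h : Rj (Sum.inr y) (om X.h2) ∈ K) : Om X.h2 0 1 ∈ K := by
  rw [Rj_om] at h
  have := X.avg hK h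
  simpa using this

theorem left_pair {x y : α} (h : Rj (Sum.inl x) (om X.h2) * Rj (Sum.inl y) (om X.h2) ∈ K) :
    Om X.h2 1 0 ∈ K := by
  rw [Rj_om, Rj_om, ← Dom_add] at h
  have h1 := X.avg hK h
  have h3 : (Om X.h2 1 0 : GU (α ⊕ β) F) ^ (2 : ℤ) ∈ K := by
    rw [← Om_mul]
    simpa [Finset.sum_add_distrib] using h1
  exact mem_of_zpow (X.OmCube 1 0) (by norm_num) h3

theorem right_pair {x y : β} (h : Rj (Sum.inr x) (om X.h2) * Rj (Sum.inr y) (om X.h2) ∈ K) :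
    Om X.h2 0 1 ∈ K := by
  rw [Rj_om, Rj_om, ← Dom_add] at h
  have h1 := X.avg hK h
  have h3 : (Om X.h2 0 1 : GU (α ⊕ β) F) ^ (2 : ℤ) ∈ K := by
    rw [← Om_mul]
    simpa [Finset.sum_add_distrib] using h1
  exact mem_of_zpow (X.OmCube 0 1) (by norm_num) h3

theorem goodAll (hL : Om X.h2 1 0 ∉ K) (hR : Om X.h2 0 1 ∉ K) : Good X.h2 X.T K (fun _ => True) where
  sk := hK
  h1 := by
    rintro (x | y) - h
    · exact hL (X.left_Rj hK h)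
    · exact hR (X.right_Rj hK h)
  h3 := by
    intro i j _ hsw _ h
    rcases X.swap_fibre hsw with ⟨x, y, rfl, rfl⟩ | ⟨x, y, rfl, rfl⟩
    · exact hL (X.left_pair hK h)
    · exact hR (X.right_pair hK h)
  h4 := fun _ _ _ h => absurd trivial h

theorem goodL (hL : Om X.h2 1 0 ∉ K)
    (hNF : ∀ x y, ∀ k ∈ K, k * Rj (Sum.inl x) nu * k⁻¹ ≠ Rj (Sum.inr y) nu) :
    Good X.h2 X.T K (fun j => j.isLeft = true) where
  sk := hK
  h1 := by
    rintro (x | y) h' h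
    · exact hL (X.left_Rj hK h)
    · exact absurd h' (by simp)
  h3 := by
    intro i j _ hsw hi h
    rcases X.swap_fibre hsw with ⟨x, y, rfl, rfl⟩ | ⟨x, y, rfl, rfl⟩
    · exact hL (X.left_pair hK h)
    · exact absurd hi (by simp)
  h4 := by
    rintro (x | x) (y | y) hx hy k hk
    · exact absurd rfl hy
    · exact hNF x y k hk
    · exact absurd hx (by simp)
    · exact absurd hx (by simp)

theorem goodR (hR : Om X.h2 0 1 ∉ K)
    (hNF : ∀ x y, ∀ k ∈ K, k * Rj (Sum.inl x) nu * k⁻¹ ≠ Rj (Sum.inr y) nu) :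
    Good X.h2 X.T K (fun j => j.isRight = true) where
  sk := hK
  h1 := by
    rintro (x | y) h' h
    · exact absurd h' (by simp)
    · exact hR (X.right_Rj hK h)
  h3 := by
    intro i j _ hsw hi h
    rcases X.swap_fibre hsw with ⟨x, y, rfl, rfl⟩ | ⟨x, y, rfl, rfl⟩
    · exact absurd hi (by simp)
    · exact hR (X.right_pair hK h)
  h4 := by
    rintro (x | x) (y | y) hx hy k hk
    · exact absurd hx (by simp)
    · exact absurd hx (by simp)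
    · intro h
      apply hNF y x k⁻¹ (inv_mem hk)
      rw [← h]; group
    · exact absurd rfl hy

theorem blk_L (hL : Om X.h2 1 0 ∉ K)
    (hNF : ∀ x y, ∀ k ∈ K, k * Rj (Sum.inl x) nu * k⁻¹ ≠ Rj (Sum.inr y) nu) : ∀ k ∈ K, IsBlk k := by
  have h1 : ∀ k ∈ K, ∀ y x, k.1 (Sum.inr y) (Sum.inl x) = 0 := by
    intro k hk y x
    obtain ⟨j, hj, hj'⟩ := frame X.hns (X.goodL hK hL hNF) ((CV_e (I := fun j : α ⊕ β => j.isLeft = true) (j := Sum.inl x) rfl).act hk)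
    have h3 := hj' (Sum.inr y) (by rintro rfl; exact absurd hj (by simp))
    rwa [Cfsg.Agent.H158.PronMono.mulVec_e] at h3
  intro k hk
  refine ⟨fun x y => ?_, h1 k hk⟩
  have h3 := h1 k⁻¹ (inv_mem hk) y x
  rw [coe_inv_GU, Matrix.conjTranspose_apply] at h3
  exact star_eq_zero.1 h3

theorem blk_R (hR : Om X.h2 0 1 ∉ K)
    (hNF : ∀ x y, ∀ k ∈ K, k * Rj (Sum.inl x) nu * k⁻¹ ≠ Rj (Sum.inr y) nu) : ∀ k ∈ K, IsBlk k := by
  have h1 : ∀ k ∈ K, ∀ x y, k.1 (Sum.inl x) (Sum.inr y) = 0 := by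
    intro k hk x y
    obtain ⟨j, hj, hj'⟩ := frame X.hns (X.goodR hK hR hNF) ((CV_e (I := fun j : α ⊕ β => j.isRight = true) (j := Sum.inr y) rfl).act hk)
    have h3 := hj' (Sum.inl x) (by rintro rfl; exact absurd hj (by simp))
    rwa [Cfsg.Agent.H158.PronMono.mulVec_e] at h3
  intro k hk
  refine ⟨h1 k hk, fun y x => ?_⟩
  have h3 := h1 k⁻¹ (inv_mem hk) x y
  rw [coe_inv_GU, Matrix.conjTranspose_apply] at h3
  exact star_eq_zero.1 h3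

/-- `K` is monomial. -/
theorem mono_all (hL : Om X.h2 1 0 ∉ K) (hR : Om X.h2 0 1 ∉ K) {k : GU (α ⊕ β) F} (hk : k ∈ K) :
    ∃ σ : Perm (α ⊕ β), Mono k.1 σ := by
  apply Cfsg.Agent.H158.PronA.mono_of_cols
  intro b
  obtain ⟨j, -, hj⟩ := frame X.hns (X.goodAll hK hL hR) ((CV_e (j := b) trivial).act hk)
  refine ⟨j, fun a ha => ?_⟩
  have h3 := hj a ha
  rwa [Cfsg.Agent.H158.PronMono.mulVec_e] at h3

/-- The commutator argument. -/
theorem weight {h : GU (α ⊕ β) F} {σ : Perm (α ⊕ β)} (hσ : Mono h.1 σ)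
    (hent : ∀ b, ∃ w ∈ N8 F, (w : ℍ[F]) = h.1 (σ b) b) (hσβ : ∀ z : β, ∃ w : α, σ (Sum.inr z) = Sum.inl w)
    {x y : ℤ} (hxy : ¬ (3 : ℤ) ∣ x - y) (hc : Om X.h2 x y * h * (Om X.h2 x y)⁻¹ * h⁻¹ ∈ K) :
    Om X.h2 1 (-1) ∈ K := by
  obtain ⟨d, hd, he⟩ := Dom_commutator X.h2 X.hns (Sum.elim (fun _ => x) (fun _ => y)) hσ hent
  have hc' : Dom X.h2 (fun b => (Sum.elim (fun _ => x) (fun _ => y) : α ⊕ β → ℤ) b -
      (Sum.elim (fun _ => x) (fun _ => y) : α ⊕ β → ℤ) (σ⁻¹ b)) ∈ K := by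
    have h1 : Om X.h2 x y * h * (Om X.h2 x y)⁻¹ * h⁻¹ * (D d)⁻¹ ∈ K :=
      mul_mem hc (inv_mem (hK (D_mem _ hd)))
    rw [Om, he, mul_inv_cancel_right] at h1
    exact h1
  have h1 := X.avg hK hc'
  have hr : ∀ y' : β, (Sum.elim (fun _ => x) (fun _ => y) : α ⊕ β → ℤ) (Sum.inr y') -
      (Sum.elim (fun _ => x) (fun _ => y) : α ⊕ β → ℤ) (σ⁻¹ (Sum.inr y')) = y - x := by
    intro y'
    rcases h3 : σ⁻¹ (Sum.inr y') with w | w
    · rfl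
    · exfalso
      obtain ⟨v, hv⟩ := hσβ w
      rw [Perm.inv_eq_iff_eq, hv] at h3
      exact Sum.inr_ne_inl h3
  have hsum : ∑ b, ((Sum.elim (fun _ => x) (fun _ => y) : α ⊕ β → ℤ) b -
      (Sum.elim (fun _ => x) (fun _ => y) : α ⊕ β → ℤ) (σ⁻¹ b)) = 0 := by
    rw [Finset.sum_sub_distrib, Equiv.sum_comp (σ⁻¹) (Sum.elim (fun _ => x) (fun _ => y) : α ⊕ β → ℤ),
      sub_self]
  rw [Fintype.sum_sum_type, Finset.sum_congr rfl (fun y' _ => hr y'), Finset.sum_const, Finset.card_univ,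
    X.hβ] at hsum
  rw [Finset.sum_congr rfl (fun y' _ => hr y'), Finset.sum_const, Finset.card_univ, X.hβ] at h1
  have e1 : (∑ x_1 : α, ((Sum.elim (fun _ => x) (fun _ => y) : α ⊕ β → ℤ) (Sum.inl x_1) -
      (Sum.elim (fun _ => x) (fun _ => y) : α ⊕ β → ℤ) (σ⁻¹ (Sum.inl x_1)))) = 1 * (2 ^ X.b * (x - y)) := by
    rw [nsmul_eq_mul] at hsum
    push_cast at hsum
    linear_combination hsum
  have e2 : (2 ^ X.b : ℕ) • (y - x) = (-1) * (2 ^ X.b * (x - y)) := by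
    rw [nsmul_eq_mul]; push_cast; ring
  rw [e1, e2, Om_mul] at h1
  refine mem_of_zpow (X.OmCube 1 (-1)) ?_ h1
  intro hd
  rcases Int.prime_three.dvd_mul.1 hd with h3 | h3
  · rcases two_pow_mod X.b with h4 | h4 <;> omega
  · exact hxy h3

/-- Fusion of the two fibres. -/
theorem fusion (hOm : Om X.h2 1 0 ∈ K ∨ Om X.h2 0 1 ∈ K) {x : α} {y : β} {k : GU (α ⊕ β) F} (hk : k ∈ K)
    (hkz : k * Rj (Sum.inl x) nu * k⁻¹ = Rj (Sum.inr y) nu) : Om X.h2 1 (-1) ∈ K := by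
  obtain ⟨S, hS⟩ := exists_sylow_gen X.h2 X.hns X.T
  set B : Subgroup (GU (α ⊕ β) F) := SG (Q8 F) (⊥ : Subgroup (Perm (α ⊕ β))) with hB
  have hB2 : IsPGroup 2 B := SG_isPGroup Q8_isPGroup IsPGroup.of_bot
  have hBS : B ≤ SG (Q8 F) (X.T : Subgroup (Perm (α ⊕ β))) := SG_mono le_rfl bot_le
  -- the base group commutes with the frame reflections
  have hBc : ∀ s ∈ B, ∀ j, s * Rj j nu * s⁻¹ = Rj j nu := by
    rintro s ⟨σ, hσ, hs, hent⟩ j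
    rw [Subgroup.mem_bot] at hσ
    subst hσ
    obtain ⟨w, -, hw⟩ := hent j
    rw [hs.conj_Rj j hw, conj_nu]; rfl
  let C : Subgroup (GU (α ⊕ β) F) := K ⊓ Subgroup.centralizer {Rj (Sum.inr y) nu}
  have hCc : ∀ c ∈ C, c * Rj (Sum.inr y) nu * c⁻¹ = Rj (Sum.inr y) nu := by
    rintro c ⟨-, hc⟩
    have h1 := Subgroup.mem_centralizer_iff.1 hc _ rfl
    rw [← h1, mul_inv_cancel_right]
  have hCm : ∀ c ∈ K, c * Rj (Sum.inr y) nu * c⁻¹ = Rj (Sum.inr y) nu → c ∈ C := by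
    intro c hc h1
    refine Subgroup.mem_inf.2 ⟨hc, Subgroup.mem_centralizer_iff.2 ?_⟩
    rintro _ rfl
    rw [mul_inv_eq_iff_eq_mul] at h1
    exact h1.symm
  obtain ⟨k₂, hk₂, c, hc, hA', hB'⟩ := two_into S (K := K) (C := C) (A := B.map (MulAut.conj k).toMonoidHom)
    (B := B) (hS ▸ hK) inf_le_left (by
      rintro _ ⟨s, hs, rfl⟩
      show k * s * k⁻¹ ∈ C
      apply hCm _ (mul_mem (mul_mem hk (hK (hBS hs))) (inv_mem hk))
      have h1 : k * s * k⁻¹ * Rj (Sum.inr y) nu * (k * s * k⁻¹)⁻¹ =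
          k * (s * (k⁻¹ * Rj (Sum.inr y) nu * k) * s⁻¹) * k⁻¹ := by group
      have h3 : k⁻¹ * Rj (Sum.inr y) nu * k = Rj (Sum.inl x) nu := by rw [← hkz]; group
      rw [h1, h3, hBc s hs, hkz]) (by
      intro s hs
      exact hCm s (hK (hBS hs)) (hBc s hs _)) (hB2.map _) hB2
  rw [hS] at hA' hB'
  have hRB : ∀ (b : α ⊕ β) (w : U F), w ∈ Q8 F → Rj b w ∈ B := fun b w hw => Rj_mem _ b hw
  obtain ⟨σ₁, hσ₁, hent₁⟩ := mono_of_base X.h2 (T := (X.T : Subgroup (Perm (α ⊕ β)))) (g := k₂ * k) (by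
    intro b w hw
    have h1 := hA' (k * Rj b w * k⁻¹) ⟨_, hRB b w hw, rfl⟩
    have h3 : k₂ * k * Rj b w * (k₂ * k)⁻¹ = k₂ * (k * Rj b w * k⁻¹) * k₂⁻¹ := by group
    rw [h3]; exact h1)
  obtain ⟨σ₂, hσ₂, hent₂⟩ := mono_of_base X.h2 (T := (X.T : Subgroup (Perm (α ⊕ β)))) (g := k₂ * c) (by
    intro b w hw
    exact hB' _ (hRB b w hw))
  -- the images of `x` and `y`
  have himg : σ₁ (Sum.inl x) = σ₂ (Sum.inr y) := by
    apply Rj_nu_injective (F := F) X.h2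
    obtain ⟨u, hu⟩ := hσ₁.entry (Sum.inl x)
    obtain ⟨v, hv⟩ := hσ₂.entry (Sum.inr y)
    have h1 := hσ₁.conj_Rj (Sum.inl x) hu nu
    have h3 := hσ₂.conj_Rj (Sum.inr y) hv nu
    rw [conj_nu] at h1 h3
    rw [← h1, ← h3]
    have e1 : k₂ * k * Rj (Sum.inl x) nu * (k₂ * k)⁻¹ = k₂ * (k * Rj (Sum.inl x) nu * k⁻¹) * k₂⁻¹ := by group
    have e2 : k₂ * c * Rj (Sum.inr y) nu * (k₂ * c)⁻¹ = k₂ * (c * Rj (Sum.inr y) nu * c⁻¹) * k₂⁻¹ := by group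
    rw [e1, e2, hkz, hCc c hc]
  have hcK : c ∈ K := hc.1
  set N : Subgroup (GU (α ⊕ β) F) := K ⊓ SG (N8 F) ⊤ with hN
  have hm₁ : k₂ * k ∈ N := ⟨mul_mem hk₂ hk, σ₁, trivial, hσ₁, hent₁⟩
  have hm₂ : k₂ * c ∈ N := ⟨mul_mem hk₂ hcK, σ₂, trivial, hσ₂, hent₂⟩
  have hQN : Q8 F ≤ N8 F := Subgroup.le_normalizer
  have hSN : SG (Q8 F) (X.T : Subgroup (Perm (α ⊕ β))) ≤ N := le_inf hK (SG_mono hQN le_top)
  have hTP : TT (X.T₁ : Subgroup (Perm α)) (X.T₂ : Subgroup (Perm β)) ≤ Pm N := by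
    rw [← X.hT]; exact le_Pm hSN
  obtain ⟨σ, hσP, hσβ⟩ := exists_move X.hα X.hβ X.hab hTP (ρ := σ₂⁻¹ * σ₁)
    (mul_mem (inv_mem ⟨_, hm₂, hσ₂⟩) ⟨_, hm₁, hσ₁⟩) (x := x) (y := y) (by
      show σ₂⁻¹ (σ₁ (Sum.inl x)) = Sum.inr y
      rw [himg]; simp)
  obtain ⟨h, ⟨hhK, σ', -, hσ', hent⟩, hσh⟩ := hσP
  have := hσ'.unique hσh
  subst this
  rcases hOm with hO | hO
  · exact X.weight hK hσ' hent hσβ (x := 1) (y := 0) (by norm_num)
      (mul_mem (mul_mem (mul_mem hO hhK) (inv_mem hO)) (inv_mem hhK))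
  · exact X.weight hK hσ' hent hσβ (x := 0) (y := 1) (by norm_num)
      (mul_mem (mul_mem (mul_mem hO hhK) (inv_mem hO)) (inv_mem hhK))

end Dat

end Cfsg.Agent.H408.Pron.Cases
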