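import Cfsg.Agent.H408.Pron.Gen

/-!
# The frame theorem (helper408)

`K` contains the wreath product of `Q8` and a Sylow 2-subgroup of the symmetric group, `I` is a set of indices.
If no `ω_j`, no `ω_a ω_b` (`swap a b ∈ T`) lies in `K` (`j, a ∈ I`), and no frame reflection of `I` is
`K`-conjugate to a frame reflection outside of `I`, then `K` permutes the frame vectors of `I`.
-/

set_option autoImplicit false
set_option linter.unusedSectionVars false

namespace Cfsg.Agent.H408.Pron.Frame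

open Quaternion Matrix Equiv
open Cfsg.Agent.H158.PronQ Cfsg.Agent.H158.PronMat Cfsg.Agent.H158.PronMono
open Cfsg.Agent.H158.PronFrame Cfsg.Agent.H158.PronTwo Cfsg.Agent.H158.PronAvg
open Cfsg.Agent.H158.PronK Cfsg.Agent.H158.PronP Cfsg.Agent.H158.PronT Cfsg.Agent.H158.PronH
open Cfsg.Agent.H158.PronG Cfsg.Agent.H158.PronM2
open Cfsg.Agent.H408.Pron.Gen

variable {F : Type*} [Field F]

/-! ### two by two -/

/-- all reflections in the direction `(1, 1)` -/
theorem E_mem [Finite F] (h2 : (2 : F) ≠ 0) (hns : ¬ IsSquare (2 : F))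
    {L : Subgroup (GU (Fin 2) F)} (h0 : ∀ w ∈ Q8 F, Rj 0 w ∈ L) (h1 : ∀ w ∈ Q8 F, Rj 1 w ∈ L)
    {u : ℍ[F]} (hu : 2 * normSq u = 1)
    (hx : ip (fun a => (f2 : Fin 2 → ℍ[F]) a * u) (fun a => (f2 : Fin 2 → ℍ[F]) a * u) = 1)
    (hR : ∀ w ∈ Q8 F, R (fun a => f2 a * u) hx w ∈ L) : ∀ w ∈ Q8 F, E h2 w ∈ L := by
  obtain ⟨S, hS⟩ := exists_sylow_Q8 h2 hns
  have hQP : (S : Subgroup (U F)) ≤ L.comap (E h2) := by
    refine le_of_norm S (X := (Q8 F).map (cjq u 2 hu)) ?_ ?_ ?_ ?_
    · intro s hs x hx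
      rw [hS] at hs
      show E h2 (s * x * s⁻¹) ∈ L
      rw [← sc_E]
      have h3 : sc s ∈ L := by rw [sc_eq_Rj]; exact mul_mem (h0 s hs) (h1 s hs)
      exact mul_mem (mul_mem h3 hx) (inv_mem h3)
    · rintro _ ⟨w, hw, rfl⟩
      show E h2 (cjq u 2 hu w) ∈ L
      rw [E, ← R_eq_RR h2 ip_f2 hu hx]
      exact hR w hw
    · exact Q8_isPGroup.map _
    · rw [hS, Subgroup.card_map_of_injective (cjq_injective u 2 hu)]
  rw [hS] at hQP
  exact hQP

theorem rf_f2 {u : ℍ[F]} (hu : 2 * normSq u = 1)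
    (hx : ip (fun a => (f2 : Fin 2 → ℍ[F]) a * u) (fun a => (f2 : Fin 2 → ℍ[F]) a * u) = 1) (a b : Fin 2) :
    (R (fun a => f2 a * u) hx nu).1 a b = (1 : Matrix (Fin 2) (Fin 2) ℍ[F]) a b - 1 := by
  rw [rf_apply]
  congr 1
  show 2 * ((1 * u) * star (1 * u)) = 1
  rw [one_mul, self_mul_star]
  have h1 : ((2 * normSq u : F) : ℍ[F]) = 1 := by rw [hu]; rfl
  rw [← h1, Quaternion.coe_mul]; rfl

/-- the frame reflection is conjugate to the reflection in the direction `(1, 1)` -/
theorem two_fuse [Finite F] (h2 : (2 : F) ≠ 0) (hns : ¬ IsSquare (2 : F))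
    {L : Subgroup (GU (Fin 2) F)} (h0 : ∀ w ∈ Q8 F, Rj 0 w ∈ L) (h1 : ∀ w ∈ Q8 F, Rj 1 w ∈ L)
    {u : ℍ[F]} (hu : 2 * normSq u = 1)
    (hx : ip (fun a => (f2 : Fin 2 → ℍ[F]) a * u) (fun a => (f2 : Fin 2 → ℍ[F]) a * u) = 1)
    (hR : ∀ w ∈ Q8 F, R (fun a => f2 a * u) hx w ∈ L) :
    ∃ l ∈ L, l * Rj 0 nu * l⁻¹ = R (fun a => f2 a * u) hx nu := by
  have hE := E_mem h2 hns h0 h1 hu hx hR
  have ht := two_half h2
  set p : ℍ[F] := mkQ 2⁻¹ 2⁻¹ 0 0 with hp
  have hpN : 2 * normSq p = 1 := by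
    rw [normSq_def']
    simp only [hp, mkQ_re, mkQ_imI, mkQ_imJ, mkQ_imK]
    linear_combination (2 * (2 : F)⁻¹ + 1) * ht
  refine ⟨Rj 1 (uI)⁻¹ * E h2 uI, mul_mem (h1 _ (inv_mem uI_mem)) (hE _ uI_mem), ?_⟩
  have hvec : (Rj 1 (uI)⁻¹ * E h2 uI : GU (Fin 2) F).1 *ᵥ e 0 = fun a => (f2 : Fin 2 → ℍ[F]) a * p := by
    have e1 : (Rj 1 (uI)⁻¹ * E h2 uI : GU (Fin 2) F).1 = (Rj 1 (uI)⁻¹).1 * (E h2 uI).1 := rfl
    rw [e1, E_mat h2 uI (p := mkQ 2⁻¹ 2⁻¹ 0 0) (q := mkQ (-2⁻¹) 2⁻¹ 0 0)
      (by apply Quaternion.ext <;> simp) (by apply Quaternion.ext <;> simp), Rj1_mat,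
      Cfsg.Agent.H158.PronQ.coe_inv, coe_uI, star_qi, Matrix.mul_fin_two, mulVec_e]
    funext a
    show _ = 1 * p
    rw [one_mul]
    fin_cases a
    · simp
    · apply Quaternion.ext <;> simp
  have hxp : ip (fun a => (f2 : Fin 2 → ℍ[F]) a * p) (fun a => (f2 : Fin 2 → ℍ[F]) a * p) = 1 := by
    rw [← hvec, ip_act, ip_e_e]
  generalize (Rj 1 (uI)⁻¹ * E h2 uI : GU (Fin 2) F) = l at hvec
  rw [Rj, R_conj l (e 0) (ip_e_e 0) (by rw [ip_act, ip_e_e])]
  rw [R_congr hvec _ hxp]
  apply Subtype.ext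
  ext1 a b
  rw [rf_f2 hpN hxp, rf_f2 hu hx]

variable {n : Type*} [Fintype n] [DecidableEq n]

/-- The hypotheses of the frame theorem. -/
structure Good (h2 : (2 : F) ≠ 0) (T : Sylow 2 (Perm n)) (K : Subgroup (GU n F)) (I : n → Prop) : Prop where
  sk : SG (Q8 F) (T : Subgroup (Perm n)) ≤ K
  h1 : ∀ j, I j → Rj j (om h2) ∉ K
  h3 : ∀ a b, a ≠ b → swap a b ∈ (T : Subgroup (Perm n)) → I a → Rj a (om h2) * Rj b (om h2) ∉ K
  h4 : ∀ j a, I j → ¬ I a → ∀ k ∈ K, k * Rj j nu * k⁻¹ ≠ Rj a nu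

/-- the vectors of the frame of `K` -/
def CV (K : Subgroup (GU n F)) (I : n → Prop) (x : n → ℍ[F]) : Prop :=
  ∃ k ∈ K, ∃ j, I j ∧ x = k.1 *ᵥ e j

theorem CV.act {K : Subgroup (GU n F)} {I : n → Prop} {x : n → ℍ[F]} (hx : CV K I x) {g : GU n F}
    (hg : g ∈ K) : CV K I (g.1 *ᵥ x) := by
  obtain ⟨k, hk, j, hj, rfl⟩ := hx
  refine ⟨g * k, mul_mem hg hk, j, hj, ?_⟩
  rw [Matrix.mulVec_mulVec]; rfl

theorem CV_e {K : Subgroup (GU n F)} {I : n → Prop} {j : n} (hj : I j) : CV K I (e j) :=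
  ⟨1, one_mem _, j, hj, (Matrix.one_mulVec _).symm⟩

theorem CV.unit {K : Subgroup (GU n F)} {I : n → Prop} {x : n → ℍ[F]} (hx : CV K I x) : ip x x = 1 := by
  obtain ⟨k, hk, j, hj, rfl⟩ := hx
  rw [ip_act, ip_e_e]

theorem CV.InS {K : Subgroup (GU n F)} {I : n → Prop} {T : Subgroup (Perm n)} (hK : SG (Q8 F) T ≤ K)
    {x : n → ℍ[F]} (hx : CV K I x) : InS K x := by
  obtain ⟨k, hk, j, hj, rfl⟩ := hx
  exact (InS_e hK j).act hk

/-- a unit vector with one nonzero coordinate -/
theorem eq_smul {x : n → ℍ[F]} {hx : ip x x = 1} {j : n} (hj : ∀ a, a ≠ j → x a = 0) :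
    ∃ u : U F, x = fun a => (e j : n → ℍ[F]) a * (u : ℍ[F]) := by
  have h1 : normSq (x j) = 1 := by
    have := sum_normSq hx
    rw [Finset.sum_eq_single j] at this
    · exact this
    · intro b _ hb; rw [hj b hb, map_zero]
    · intro h; exact absurd (Finset.mem_univ _) h
  refine ⟨⟨x j, mem_U.2 h1⟩, ?_⟩
  funext a
  rw [e_mul_apply]
  split_ifs with h
  · rw [h]
  · exact hj a h

theorem R_nu_eq {x : n → ℍ[F]} {hx : ip x x = 1} {j : n} (hj : ∀ a, a ≠ j → x a = 0) :
    R x hx nu = Rj j nu := by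
  obtain ⟨u, hu⟩ := eq_smul (hx := hx) hj
  have h1 : ip (fun a => (e j : n → ℍ[F]) a * (u : ℍ[F])) (fun a => (e j : n → ℍ[F]) a * (u : ℍ[F])) = 1 :=
    ip_smul_unit (ip_e_e _) u
  rw [R_congr hu hx h1, R_smul (e j) (ip_e_e _) u h1, Rj]
  congr 1
  apply Subtype.ext
  rw [Submonoid.coe_mul, Submonoid.coe_mul, coe_nu, mul_neg, mul_one, neg_mul]
  congr 1
  exact congrArg Subtype.val (mul_inv_cancel u)

theorem conj_inj {G : Type*} [Group G] {a b x y : G} (h : a * x * a⁻¹ = b * y * b⁻¹) :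
    (b⁻¹ * a) * x * (b⁻¹ * a)⁻¹ = y := by
  have h1 : (b⁻¹ * a) * x * (b⁻¹ * a)⁻¹ = b⁻¹ * (a * x * a⁻¹) * b := by group
  rw [h1, h]; group

/-- `a q b = 0` for all `q`. -/
theorem sandwich_zero (h2 : (2 : F) ≠ 0) {a b : ℍ[F]}
    (h : ∀ q : ℍ[F], IsQ8 q → a * (q - 1) * b = 0) : a = 0 ∨ b = 0 := by
  have h0 : a * b = 0 := by
    have h1 := h (-1) (Or.inr (Or.inl rfl))
    have h3 : a * (-1 - 1) * b = -(2 * (a * b)) := by noncomm_ring
    rw [h3, neg_eq_zero] at h1
    exact two_ne h2 h1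
  have hq : ∀ q : ℍ[F], IsQ8 q → a * q * b = 0 := by
    intro q hq
    have h1 := h q hq
    have h3 : a * (q - 1) * b = a * q * b - a * b := by noncomm_ring
    rwa [h3, h0, sub_zero] at h1
  by_cases ha : a = 0
  · exact Or.inl ha
  · right
    have key : ∀ t : ℍ[F], (b * t).re = 0 := by
      intro t
      by_contra hne
      apply ha
      have h4 : b * t + qi * (b * t) * star qi + qj * (b * t) * star qj + qk * (b * t) * star qk =
          (((2 * (2 * (b * t).re) : F)) : ℍ[F]) := by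
        apply Quaternion.ext <;> simp <;> ring
      have h5 : a * (b * t + qi * (b * t) * star qi + qj * (b * t) * star qj + qk * (b * t) * star qk) = 0 := by
        have e0 : a * (b * t + qi * (b * t) * star qi + qj * (b * t) * star qj + qk * (b * t) * star qk) =
            (a * b) * t + (a * qi * b) * (t * star qi) + (a * qj * b) * (t * star qj) +
              (a * qk * b) * (t * star qk) := by noncomm_ring
        rw [e0, h0, hq _ (Or.inr (Or.inr (Or.inl rfl))), hq _ (Or.inr (Or.inr (Or.inr (Or.inr (Or.inl rfl))))),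
          hq _ (Or.inr (Or.inr (Or.inr (Or.inr (Or.inr (Or.inr (Or.inl rfl)))))))]
        simp
      rw [h4, Quaternion.mul_coe_eq_smul] at h5
      exact (smul_eq_zero.1 h5).resolve_left (mul_ne_zero h2 (mul_ne_zero h2 hne))
    have k0 := key 1
    have k1 := key qi
    have k2 := key qj
    have k3 := key qk
    rw [mul_one] at k0
    simp at k1 k2 k3
    apply Quaternion.ext <;> simp [k0, k1, k2, k3]

section Main

variable [Finite F] {h2 : (2 : F) ≠ 0} (hns : ¬ IsSquare (2 : F)) {T : Sylow 2 (Perm n)}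
  {K : Subgroup (GU n F)} {I : n → Prop} (hG : Good h2 T K I)

include hns hG

/-- A reflection of the frame of `K` lying in the wreath product is a frame reflection. -/
theorem f1 {x : n → ℍ[F]} (hx : ip x x = 1) (hxC : CV K I x)
    (hz : R x hx nu ∈ SG (Q8 F) (T : Subgroup (Perm n))) : ∃ j, I j ∧ ∀ a, a ≠ j → x a = 0 := by
  obtain ⟨k, hk, j₀, hj₀, hxk⟩ := id hxC
  have hkz : k * Rj j₀ nu * k⁻¹ = R x hx nu := by
    rw [Rj, R_conj k (e j₀) (ip_e_e _) (by rw [ip_act, ip_e_e])]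
    exact R_congr hxk.symm _ _ _
  rcases rf_mem_SG h2 hz with ⟨j, hj⟩ | ⟨a, b, hab, hsw, -, hzero, hb, w, hw, ha⟩
  · refine ⟨j, ?_, hj⟩
    by_contra hjI
    apply hG.h4 j₀ j hj₀ hjI k hk
    rw [hkz, R_nu_eq hj]
  · exfalso
    have hSK := hG.sk
    -- move `x` to `(u, u)`
    set v : U F := nu * w⁻¹ with hv
    have hvQ : v ∈ Q8 F := mul_mem (Or.inr (Or.inl rfl)) (inv_mem hw)
    have hvK : Rj a v ∈ K := hSK (Rj_mem _ a hvQ)
    have hInS : InS K ((Rj a v).1 *ᵥ x) := (hxC.InS hSK).act hvK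
    have hX := Xab_unit (F := F) hab
    have hy : (Rj a v).1 *ᵥ x = Xab a b *ᵥ (fun k => (f2 : Fin 2 → ℍ[F]) k * x b) := by
      rw [Rj_mulVec, Xab_mulVec]
      funext c
      show _ = e a c * (1 * x b) + e b c * (1 * x b)
      rw [one_mul, e_mul_apply, e_mul_apply]
      by_cases hca : c = a
      · subst hca
        rw [if_pos rfl, if_pos rfl, if_neg hab, add_zero, ha]
        have h3 : (v : ℍ[F]) = -star (w : ℍ[F]) := by
          rw [hv, Submonoid.coe_mul, coe_nu, Cfsg.Agent.H158.PronQ.coe_inv]; noncomm_ring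
        rw [h3, neg_mul_neg, ← mul_assoc, Unitary.coe_star_mul_self, one_mul]
      · rw [if_neg hca, if_neg hca, zero_add]
        by_cases hcb : c = b
        · rw [if_pos hcb, hcb]
        · rw [if_neg hcb, hzero c hca hcb]
    have hRv : ∀ h5 : ip ((Rj a v).1 *ᵥ x) ((Rj a v).1 *ᵥ x) = 1,
        Rj a v * R x hx nu * (Rj a v)⁻¹ = R ((Rj a v).1 *ᵥ x) h5 nu := fun h5 => R_conj _ x hx h5 nu
    obtain ⟨hy1', hy2'⟩ := hInS
    have hy1 : ip (Xab a b *ᵥ (fun k => (f2 : Fin 2 → ℍ[F]) k * x b))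
        (Xab a b *ᵥ (fun k => (f2 : Fin 2 → ℍ[F]) k * x b)) = 1 := by rw [← hy]; exact hy1'
    have hy2 : ∀ w ∈ Q8 F, R (Xab a b *ᵥ (fun k => (f2 : Fin 2 → ℍ[F]) k * x b)) hy1 w ∈ K := by
      intro w hw
      rw [← R_congr hy hy1' hy1]
      exact hy2' w hw
    have hf : ip (fun k => (f2 : Fin 2 → ℍ[F]) k * x b) (fun k => (f2 : Fin 2 → ℍ[F]) k * x b) = 1 := by
      rw [← ip_Phi hX]; exact hy1
    have h0' : ∀ w : U F, Phi (Xab a b) hX (Rj 0 w) = Rj a w := by
      intro w
      have hXe : (Xab a b : Matrix n (Fin 2) ℍ[F]) *ᵥ e 0 = e a := by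
        rw [Xab_mulVec]
        funext c
        have e0 : (e 0 : Fin 2 → ℍ[F]) 0 = 1 := by rw [e, Pi.single_eq_same]
        have e1 : (e 0 : Fin 2 → ℍ[F]) 1 = 0 := by rw [e, Pi.single_eq_of_ne (by decide)]
        rw [e0, e1, mul_one, mul_zero, add_zero]
      rw [Rj, Phi_R hX _ _ (by rw [hXe]; exact ip_e_e a), Rj]
      exact R_congr hXe _ _ _
    have h1' : ∀ w : U F, Phi (Xab a b) hX (Rj 1 w) = Rj b w := by
      intro w
      have hXe : (Xab a b : Matrix n (Fin 2) ℍ[F]) *ᵥ e 1 = e b := by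
        rw [Xab_mulVec]
        funext c
        have e0 : (e 1 : Fin 2 → ℍ[F]) 1 = 1 := by rw [e, Pi.single_eq_same]
        have e1 : (e 1 : Fin 2 → ℍ[F]) 0 = 0 := by rw [e, Pi.single_eq_of_ne (by decide)]
        rw [e0, e1, mul_one, mul_zero, zero_add]
      rw [Rj, Phi_R hX _ _ (by rw [hXe]; exact ip_e_e b), Rj]
      exact R_congr hXe _ _ _
    have g0 : ∀ w ∈ Q8 F, Rj 0 w ∈ K.comap (Phi (Xab a b) hX) := fun w hw => by
      show Phi (Xab a b) hX (Rj 0 w) ∈ K
      rw [h0']; exact hSK (Rj_mem _ a hw)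
    have g1 : ∀ w ∈ Q8 F, Rj 1 w ∈ K.comap (Phi (Xab a b) hX) := fun w hw => by
      show Phi (Xab a b) hX (Rj 1 w) ∈ K
      rw [h1']; exact hSK (Rj_mem _ b hw)
    have g2 : ∀ w ∈ Q8 F, R _ hf w ∈ K.comap (Phi (Xab a b) hX) := fun w hw => by
      show Phi (Xab a b) hX (R _ hf w) ∈ K
      rw [Phi_R hX _ hf hy1]; exact hy2 w hw
    by_cases haI : I a
    · have hL := two_by_two h2 hns (L := K.comap (Phi (Xab a b) hX)) g0 g1 hb hf g2
      have h5 : Phi (Xab a b) hX (sc (om h2)) = Rj a (om h2) * Rj b (om h2) := by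
        rw [sc_eq_Rj, map_mul, h0', h1']
      apply hG.h3 a b hab hsw haI
      rw [← h5]
      exact hL
    · obtain ⟨l, hl, hle⟩ := two_fuse h2 hns (L := K.comap (Phi (Xab a b) hX)) g0 g1 hb hf g2
      have hl' : Phi (Xab a b) hX l ∈ K := hl
      have h6 : Phi (Xab a b) hX l * Rj a nu * (Phi (Xab a b) hX l)⁻¹ =
          Rj a v * R x hx nu * (Rj a v)⁻¹ := by
        rw [← h0', ← map_inv, ← map_mul, ← map_mul, hle, Phi_R hX _ hf hy1, hRv hy1']
        exact R_congr hy.symm _ _ _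
      have h7 : Rj a v * R x hx nu * (Rj a v)⁻¹ = (Rj a v * k) * Rj j₀ nu * (Rj a v * k)⁻¹ := by
        rw [← hkz]; group
      rw [h7] at h6
      have h8 := conj_inj h6.symm
      exact hG.h4 j₀ a hj₀ haI _ (mul_mem (inv_mem hl') (mul_mem hvK hk)) h8

/-- Two reflections of the frame of `K` lying in a common 2-subgroup commute. -/
theorem f2' {x y : n → ℍ[F]} (hx : ip x x = 1) (hxC : CV K I x) (hy : ip y y = 1) (hyC : CV K I y)
    {Q : Subgroup (GU n F)} (hQK : Q ≤ K) (hQ : IsPGroup 2 Q) (hxQ : R x hx nu ∈ Q)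
    (hyQ : R y hy nu ∈ Q) : ip x y = 0 ∨ y = fun a => x a * ip x y := by
  obtain ⟨S, hS⟩ := exists_sylow_gen h2 hns T
  obtain ⟨c, hc, hcQ⟩ := conj_into S (hS ▸ hG.sk) hQK hQ
  rw [hS] at hcQ
  have hx' := hxC.act hc
  have hy' := hyC.act hc
  have hx1 := hx'.unit
  have hy1 := hy'.unit
  have h3 := hcQ _ hxQ
  rw [R_conj c x hx hx1] at h3
  have h4 := hcQ _ hyQ
  rw [R_conj c y hy hy1] at h4
  obtain ⟨j, -, hj⟩ := f1 hns hG hx1 hx' h3
  obtain ⟨k, -, hk⟩ := f1 hns hG hy1 hy' h4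
  have h5 : ip x y = star ((c.1 *ᵥ x) j) * (c.1 *ᵥ y) j := by
    rw [← ip_act c]
    unfold ip
    refine Finset.sum_eq_single j (fun a _ ha => ?_) (fun h => absurd (Finset.mem_univ _) h)
    rw [hj a ha, star_zero, zero_mul]
  by_cases hjk : j = k
  · right
    subst hjk
    have h6 : (c.1 *ᵥ x) j * star ((c.1 *ᵥ x) j) = 1 := by
      have h7 : ip (c.1 *ᵥ x) (c.1 *ᵥ x) = star ((c.1 *ᵥ x) j) * (c.1 *ᵥ x) j := by
        unfold ip
        refine Finset.sum_eq_single j (fun a _ ha => ?_) (fun h => absurd (Finset.mem_univ _) h)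
        rw [hj a ha, star_zero, zero_mul]
      rw [hx1, star_mul_self] at h7
      rw [self_mul_star]; exact h7.symm
    have h8 : c.1 *ᵥ y = c.1 *ᵥ (fun a => x a * ip x y) := by
      rw [mulVec_smul_right]
      funext a
      by_cases ha : a = j
      · subst ha
        rw [h5, ← mul_assoc, h6, one_mul]
      · rw [hj a ha, hk a ha, zero_mul]
    have h9 := congrArg (fun v => (c.1)ᴴ *ᵥ v) h8
    simp only [Matrix.mulVec_mulVec, star_mul_coe, Matrix.one_mulVec] at h9
    exact h9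
  · left
    rw [h5, hk j hjk, mul_zero]

/-- `K` contains no transvection with a nonzero coordinate in `I`. -/
theorem no_transvection {x : n → ℍ[F]} (hx : ip x x = 1) {h : U F}
    (hN : normSq ((h : ℍ[F]) - 1) = 0) {j : n} (hjI : I j) (hj : x j * ((h : ℍ[F]) - 1) ≠ 0) :
    R x hx h ∉ K := by
  intro htK
  set m : ℍ[F] := (h : ℍ[F]) - 1 with hm
  have hm0 : m.re = 0 := by
    rw [hm]
    have := re_eq_one h2 hN
    simp [this]
  have hmm : m * m = 0 := null_sq hm0 hN
  have hms : star m = -m := pure_star hm0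
  set nj : ℍ[F] := x j * m * star (x j) with hnj
  have hnj0 : nj ≠ 0 := fun h0 => hj (mul_eq_zero_of_conj h2 hm0 hN h0)
  have hnjre : nj.re = 0 := by rw [hnj, re_conj_q, hm0, mul_zero]
  have hnjN : normSq nj = 0 := by rw [hnj, map_mul, map_mul, hN, mul_zero, zero_mul]
  have hipxe : ip x (e j) = star (x j) := by rw [← star_ip, ip_e]
  -- the element `y`
  have hzK : Rj j nu ∈ K := hG.sk (Rj_mem _ j (Or.inr (Or.inl rfl)))
  set y : GU n F := R x hx h * (Rj j nu * R x hx h * (Rj j nu)⁻¹) with hy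
  have hyK : y ∈ K := mul_mem htK (mul_mem (mul_mem hzK htK) (inv_mem hzK))
  have hnorm1 : normSq ((1 : ℍ[F]) + 2 * nj) = 1 := by
    apply normSq_one_add
    · simp [hnjre]
    · rw [map_mul, hnjN, mul_zero]
  set hj' : U F := ⟨1 + 2 * nj, mem_U.2 hnorm1⟩ with hhj
  have hye : y.1 *ᵥ e j = fun a => (e j : n → ℍ[F]) a * (hj' : ℍ[F]) := by
    rw [hy, ye_eq hx hmm j]
  -- `hj'` normalizes `P`
  have hconj : ∀ a : U F, y * Rj j a * y⁻¹ = Rj j (hj' * a * hj'⁻¹) := by
    intro a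
    rw [Rj, R_conj y (e j) (ip_e_e j) (by rw [ip_act, ip_e_e])]
    rw [R_congr hye _ (ip_smul_unit (ip_e_e _) hj')]
    rw [R_smul (e j) (ip_e_e _) hj' (ip_smul_unit (ip_e_e _) hj')]
  have hP : Q8 F ≤ K.comap (Rj j) := fun w hw => hG.sk (Rj_mem _ j hw)
  have homP : om h2 ∉ K.comap (Rj j) := hG.h1 j hjI
  have hj1 : hj' ≠ 1 := by
    intro h0
    have h3 : (1 : ℍ[F]) + 2 * nj = 1 := congrArg Subtype.val h0
    exact hnj0 (two_ne h2 (by simpa using h3))
  have hjN : normSq ((hj' : ℍ[F]) - 1) = 0 := by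
    show normSq ((1 : ℍ[F]) + 2 * nj - 1) = 0
    rw [add_sub_cancel_left, map_mul, hnjN, mul_zero]
  obtain ⟨hPQ, h30, -, f1, f3, f4⟩ := unipotent_case h2 hns hP homP hjN hj1 (by
    intro a ha
    show Rj j (hj' * a * hj'⁻¹) ∈ K
    rw [← hconj]
    exact mul_mem (mul_mem hyK ha) (inv_mem hyK))
  have g1 : (hj' : ℍ[F]).imI = 2 * nj.imI := by
    show ((1 : ℍ[F]) + 2 * nj).imI = _
    simp
  rw [g1] at f1
  -- the second transvection
  have hvK : Rj j uI ∈ K := hP uI_mem
  set x' : n → ℍ[F] := (Rj j uI).1 *ᵥ x with hx'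
  have hx'1 : ip x' x' = 1 := by rw [hx', ip_act, hx]
  have ht'K : ∀ v : U F, R x hx v ∈ K → R x' hx'1 v ∈ K := by
    intro v hv
    have h3 : Rj j uI * R x hx v * (Rj j uI)⁻¹ = R x' hx'1 v := R_conj _ x hx hx'1 v
    rw [← h3]
    exact mul_mem (mul_mem hvK hv) (inv_mem hvK)
  have hx'a : x' = fun a => if a = j then qi * x j else x a := by
    rw [hx', Rj_mulVec]
    funext a
    split_ifs with ha
    · rw [ha]; rfl
    · rfl
  have hipx : (2 * (ip x' x * m).re) = 2 * nj.imI := by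
    rw [← star_ip, hx'a, ip_change, hx]
    have h3 : star ((1 : ℍ[F]) + star (x j) * (qi * x j - x j)) * m =
        m + star (qi * x j - x j) * (x j * m) := by
      rw [star_add, star_mul, star_star, star_one]; noncomm_ring
    rw [h3]
    have h4 : (star (qi * x j - x j) * (x j * m)).re = ((x j * m) * star (qi * x j - x j)).re := by
      simp; ring
    have h5 : (x j * m) * star (qi * x j - x j) = nj * (star qi - 1) := by
      rw [star_sub, star_mul, hnj]; noncomm_ring
    rw [Quaternion.re_add, h4, h5, hm0]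
    simp [hnjre]
  -- choose the sign
  have hsign : ∃ ε : F, (ε = 1 ∨ ε = -1) ∧ ε * (2 * nj.imI) = -1 := by
    rcases mul_self_eq_one_iff.1 f1 with h3 | h3
    · exact ⟨-1, Or.inr rfl, by rw [h3]; ring⟩
    · exact ⟨1, Or.inl rfl, by rw [h3]; ring⟩
  obtain ⟨ε, hε, hε2⟩ := hsign
  obtain ⟨v, hvmem, hv⟩ : ∃ v : U F, R x' hx'1 v ∈ K ∧ (v : ℍ[F]) = 1 + ε • m := by
    rcases hε with rfl | rfl
    · exact ⟨h, ht'K h htK, by rw [one_smul, hm]; abel⟩
    · refine ⟨h⁻¹, ?_, ?_⟩
      · rw [map_inv]; exact inv_mem (ht'K h htK)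
      · rw [Cfsg.Agent.H158.PronQ.coe_inv]
        have h3 : (h : ℍ[F]) = 1 + m := by rw [hm]; abel
        rw [h3, star_add, star_one, hms, neg_smul, one_smul]
  set x'' : n → ℍ[F] := (R x' hx'1 v).1 *ᵥ x with hx''
  have hx''1 : ip x'' x'' = 1 := by rw [hx'', ip_act, hx]
  have ht'' : R x'' hx''1 h ∈ K := by
    have h3 := mul_mem (mul_mem hvmem htK) (inv_mem hvmem)
    rwa [R_conj (R x' hx'1 v) x hx hx''1 h] at h3
  have hx''m : ∀ a, x'' a * m = (if a = j then (1 - qi) * x j else 0) * m := by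
    intro a
    have h3 : x'' a = x a + x' a * (ε • m * ip x' x) := by
      rw [hx'', R_mulVec, hv, add_sub_cancel_left]
    have h4 : m * ip x' x * m = (2 * nj.imI) • m := by
      rw [sandwich, hN, zero_smul, sub_zero, hipx]
    have h5 : x'' a * m = x a * m - x' a * m := by
      rw [h3, add_mul]
      have h6 : x' a * (ε • m * ip x' x) * m = x' a * (ε • (m * ip x' x * m)) := by
        rw [smul_mul_assoc, mul_assoc, smul_mul_assoc]
      rw [h6, h4, smul_smul, hε2, neg_smul, one_smul]; noncomm_ring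
    rw [h5, hx'a]
    by_cases ha : a = j
    · subst ha
      simp only [if_true]
      noncomm_ring
    · simp only [if_neg ha]
      noncomm_ring
  set d : ℍ[F] := (1 - qi) * nj * (1 + qi) with hd
  have hdre : d.re = 0 := by rw [hd]; simp [hnjre]
  have hdN : normSq d = 0 := by rw [hd, map_mul, map_mul, hnjN, mul_zero, zero_mul]
  have hd1 : normSq ((1 : ℍ[F]) + d) = 1 := normSq_one_add hdre hdN
  set a₀ : U F := ⟨1 + d, mem_U.2 hd1⟩ with ha₀
  have hRj : R x'' hx''1 h = Rj j a₀ := by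
    apply Subtype.ext
    rw [coe_R, Rj, coe_R]
    congr 1
    ext1 b c
    rw [tv_apply, tv_apply, ← hm, hx''m b, e_mul_apply]
    have h3 : ∀ c, m * star (x'' c) = m * star (if c = j then (1 - qi) * x j else 0) := by
      intro c
      have h4 := congrArg star (hx''m c)
      rw [star_mul, star_mul, hms, neg_mul, neg_mul, neg_inj] at h4
      exact h4
    rw [mul_assoc, h3 c, ha₀]
    show _ = (if b = j then (1 + d) - 1 else 0) * _
    rw [add_sub_cancel_left]
    by_cases hb : b = j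
    · rw [if_pos hb, if_pos hb]
      by_cases hc : c = j
      · subst hc
        rw [if_pos rfl, e, Pi.single_eq_same, star_one, mul_one, hd, hnj, star_mul, star_sub,
          star_one, star_qi]
        noncomm_ring
      · rw [if_neg hc, e, Pi.single_eq_of_ne hc, star_zero]
        simp
    · rw [if_neg hb, if_neg hb, zero_mul, zero_mul]
  rw [hRj] at ht''
  have hQ : IsQ8 ((1 : ℍ[F]) + d) := hPQ ht''
  have key : ∀ q : ℍ[F], IsQ8 q → q.re * q.imI = 0 := by
    rintro q (h | h | h | h | h | h | h | h) <;> subst h <;> simp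
  have h3 := key _ hQ
  have h4 : d.imI = 2 * nj.imI := by rw [hd]; simp; ring
  simp only [Quaternion.re_add, Quaternion.imI_add, hdre, Quaternion.re_one, Quaternion.imI_one,
    h4] at h3
  rw [add_zero, one_mul, zero_add] at h3
  rw [h3] at f1
  simp at f1

/-- A coordinate in `I` of a vector of the frame of `K` is zero or of norm 1. -/
theorem claim_e {j : n} (hjI : I j) {y : n → ℍ[F]} (hy : CV K I y) (h0 : y j ≠ 0) :
    normSq (y j) = 1 := by
  by_contra hN
  have hx : CV K I (e j : n → ℍ[F]) := CV_e hjI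
  set x : n → ℍ[F] := e j with hxe
  have hx1 : ip x x = 1 := hx.unit
  have hy1 := hy.unit
  have hxK : ∀ w ∈ Q8 F, R x hx1 w ∈ K := (hx.InS hG.sk).choose_spec
  have hyK : ∀ w ∈ Q8 F, R y hy1 w ∈ K := (hy.InS hG.sk).choose_spec
  set c := ip x y with hc
  have hcj : c = y j := ip_e j y
  rw [← hcj] at h0 hN
  set ν : F := 1 - normSq c with hν
  have hν0 : ν ≠ 0 := fun h => hN (sub_eq_zero.1 h).symm
  obtain ⟨l, hl⟩ := exists_normSq (F := F) ν⁻¹
  have hlN : (l * star l : ℍ[F]) = ((ν⁻¹ : F) : ℍ[F]) := by rw [self_mul_star, hl]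
  have hlN' : (star l * l : ℍ[F]) = ((ν⁻¹ : F) : ℍ[F]) := by rw [star_mul_self, hl]
  set l' : ℍ[F] := star l * ((ν : F) : ℍ[F]) with hl'
  have hll' : l * l' = 1 := by
    rw [hl', ← mul_assoc, hlN, ← Quaternion.coe_mul, inv_mul_cancel₀ hν0, Quaternion.coe_one]
  set y' : n → ℍ[F] := y - fun a => x a * c with hy'
  have hyx : ip y x = star c := by rw [← star_ip]
  have hxy' : ip x y' = 0 := by
    rw [hy', ip_sub_right, ip_smul_right, hx1, one_mul, ← hc, sub_self]
  have hyy' : ip y y' = ((ν : F) : ℍ[F]) := by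
    rw [hy', ip_sub_right, ip_smul_right, hy1, hyx, star_mul_self, hν, Quaternion.coe_sub,
      Quaternion.coe_one]
  have hy'y' : ip y' y' = ((ν : F) : ℍ[F]) := by
    have h3 : ip (fun a => x a * c) y' = 0 := by rw [ip_smul_left, hxy', mul_zero]
    have h4 : ip y' y' = ip y y' - ip (fun a => x a * c) y' := by
      conv_lhs => rw [hy', ip_sub_left]
    rw [h4, hyy', h3, sub_zero]
  set y'' : n → ℍ[F] := fun a => y' a * l with hy''
  have hxy'' : ip x y'' = 0 := by rw [hy'', ip_smul_right, hxy', zero_mul]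
  have hy''1 : ip y'' y'' = 1 := by
    rw [hy'', ip_smul_left, ip_smul_right, hy'y', ← mul_assoc, ← Quaternion.coe_commutes,
      mul_assoc, hlN', ← Quaternion.coe_mul, mul_inv_cancel₀ hν0, Quaternion.coe_one]
  have hX := Xc_unit hx1 hy''1 hxy''
  set η : Fin 2 → ℍ[F] := ![c, l'] with hηdef
  have hXη : Xc x y'' *ᵥ η = y := by
    rw [Xc_mulVec]
    funext a
    show x a * c + y' a * l * l' = y a
    rw [mul_assoc, hll', mul_one, hy', Pi.sub_apply]
    abel
  have hη : ip η η = 1 := by rw [← ip_Phi hX, hXη, hy1]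
  set φ := Phi (Xc x y'') hX with hφ
  have hφ0 : ∀ w, φ (Rj 0 w) = R x hx1 w := by
    intro w
    rw [hφ, Rj, Phi_R hX _ _ (by rw [Xc_e0]; exact hx1)]
    exact R_congr (Xc_e0 _ _) _ _ _
  have hφη : ∀ w, φ (R η hη w) = R y hy1 w := by
    intro w
    rw [hφ, Phi_R hX _ _ (by rw [hXη]; exact hy1)]
    exact R_congr hXη _ _ _
  have hnu : (nu : U F) ∈ Q8 F := Or.inr (Or.inl rfl)
  obtain ⟨i, h, hh1, hhN, hhL⟩ := two_dim h2 (L := K.comap φ) hη
    (fun w hw => by show φ (Rj 0 w) ∈ K; rw [hφ0]; exact hxK w hw)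
    (by show φ (R η hη nu) ∈ K; rw [hφη]; exact hyK nu hnu)
    (by
      intro g hg Q hQL hQ hzQ hgQ
      have hgK : φ g ∈ K := hg
      have huC := hx.act hgK
      have hu1 := huC.unit
      have e1 : (φ g).1 *ᵥ x = Xc x y'' *ᵥ (g.1 *ᵥ e 0) := by
        conv_lhs => rw [← Xc_e0 x y'', hφ]
        exact Phi_mulVec hX g (e 0)
      have e2 : ip x ((φ g).1 *ᵥ x) = g.1 0 0 := by
        have h3 : ip (Xc x y'' *ᵥ e 0) (Xc x y'' *ᵥ (g.1 *ᵥ e 0)) = ip (e 0) (g.1 *ᵥ e 0) :=
          ip_Phi hX _ _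
        have h4 : ip (e 0) (g.1 *ᵥ e 0) = g.1 0 0 := by rw [ip_e, mulVec_e]
        rw [Xc_e0, ← e1, h4] at h3
        exact h3
      have e3 : R ((φ g).1 *ᵥ x) hu1 nu = φ (g * z * g⁻¹) := by
        rw [map_mul, map_mul, map_inv, hφ0, R_conj (φ g) x hx1 hu1]
      have h5 := f2' hns hG hx1 hx hu1 huC (Q := Q.map φ)
        (by rintro _ ⟨q, hq, rfl⟩; exact hQL hq) (hQ.map φ)
        ⟨z, hzQ, hφ0 nu⟩ ⟨_, hgQ, e3.symm⟩
      rw [e2] at h5
      rcases h5 with h5 | h5
      · left; exact h5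
      · right
        have h6 := congrArg (fun v => (Xc x y'')ᴴ *ᵥ v) h5
        have h7 : (fun a => x a * g.1 0 0) = Xc x y'' *ᵥ (fun a => (e 0 : Fin 2 → ℍ[F]) a * g.1 0 0) := by
          rw [mulVec_smul_right, Xc_e0]
        rw [e1, h7] at h6
        simp only [Matrix.mulVec_mulVec, hX, Matrix.one_mulVec] at h6
        have h8 : (Xc x y'')ᴴ * (Xc x y'' * g.1) = g.1 := by
          rw [← Matrix.mul_assoc, hX, Matrix.one_mul]
        rw [h8] at h6
        have h9 := congrFun h6 1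
        rw [mulVec_e] at h9
        rw [e_mul_apply, if_neg (by decide)] at h9
        exact h9)
    (by
      intro Q hQL hQ hzQ hηQ
      have h5 := f2' hns hG hx1 hx hy1 hy (Q := Q.map φ)
        (by rintro _ ⟨q, hq, rfl⟩; exact hQL hq) (hQ.map φ)
        ⟨z, hzQ, hφ0 nu⟩ ⟨_, hηQ, hφη nu⟩
      rcases h5 with h5 | h5
      · exact h0 h5
      · apply hN
        have h6 : ip y y = star c * c := by
          conv_lhs => rw [h5]
          rw [← hc, ip_smul_left, ip_smul_right, hx1, one_mul]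
        rw [hy1, star_mul_self] at h6
        have h7 := congrArg (fun q : ℍ[F] => q.re) h6
        simpa using h7.symm)
  have hhK : φ (Rj i h) ∈ K := hhL
  have hXi : ip (Xc x y'' *ᵥ e i) (Xc x y'' *ᵥ e i) = 1 := by rw [ip_Phi hX, ip_e_e]
  rw [hφ, Rj, Phi_R hX _ _ hXi] at hhK
  set m : ℍ[F] := (h : ℍ[F]) - 1 with hm
  have hm0 : m ≠ 0 := fun h0 => hh1 (Subtype.ext (sub_eq_zero.1 h0))
  fin_cases i
  · -- the transvection is `R x h`
    have e1 : R (Xc x y'' *ᵥ e 0) hXi h = R x hx1 h := R_congr (Xc_e0 x y'') _ _ _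
    have h3 : R x hx1 h ∈ K := by rw [← e1]; exact hhK
    refine no_transvection hns hG hx1 hhN hjI ?_ h3
    rw [hxe, e, Pi.single_eq_same, one_mul]
    exact hm0
  · -- the transvection is `R y'' h`
    have e2 : (Xc x y'' *ᵥ e 1) = y'' := by
      rw [Xc_mulVec]
      funext c
      have e0 : (e 1 : Fin 2 → ℍ[F]) 0 = 0 := by rw [e, Pi.single_eq_of_ne (by decide)]
      have e1 : (e 1 : Fin 2 → ℍ[F]) 1 = 1 := by rw [e, Pi.single_eq_same]
      rw [e0, e1, mul_one, mul_zero, zero_add]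
    have e1 : R (Xc x y'' *ᵥ e 1) hXi h = R y'' hy''1 h := R_congr e2 _ _ _
    have h3 : R y'' hy''1 h ∈ K := by rw [← e1]; exact hhK
    have hy''j : y'' j = 0 := by
      have : ip x y'' = y'' j := ip_e j y''
      rw [← this, hxy'']
    have hyy'' : ip y y'' = ((ν : F) : ℍ[F]) * l := by rw [hy'', ip_smul_right, hyy']
    have key : ∀ q : ℍ[F], IsQ8 q → c * (q - 1) * (((ν : F) : ℍ[F]) * l * m) = 0 := by
      intro q hq
      by_contra hne
      set q' : U F := ⟨q, mem_U.2 hq.normSq⟩ with hq'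
      have hq'Q : q' ∈ Q8 F := hq
      have hqK : R y hy1 q' ∈ K := hyK q' hq'Q
      have hz1 : ip ((R y hy1 q').1 *ᵥ y'') ((R y hy1 q').1 *ᵥ y'') = 1 := by rw [ip_act, hy''1]
      have hzK : R ((R y hy1 q').1 *ᵥ y'') hz1 h ∈ K := by
        rw [← R_conj (R y hy1 q') y'' hy''1 hz1 h]
        exact mul_mem (mul_mem hqK h3) (inv_mem hqK)
      refine no_transvection hns hG hz1 hhN hjI ?_ hzK
      rw [R_mulVec, ← hm]
      show (y'' j + y j * ((q - 1) * ip y y'')) * m ≠ 0
      rw [hy''j, zero_add, ← hcj, hyy'']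
      intro h5
      apply hne
      rw [← h5]
      noncomm_ring
    rcases sandwich_zero h2 key with h5 | h5
    · exact h0 h5
    · have h6 : ((ν : F) : ℍ[F]) * (l * m) = 0 := by rw [← mul_assoc]; exact h5
      rw [Quaternion.coe_mul_eq_smul] at h6
      have h7 := (smul_eq_zero.1 h6).resolve_left hν0
      have h8 : normSq l ≠ 0 := by rw [hl]; exact inv_ne_zero hν0
      exact hm0 (mul_eq_zero_left h8 h7)

/-- Two vectors of the frame of `K` are orthogonal, or their product has norm 1. -/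
theorem claim_g {x y : n → ℍ[F]} (hx : CV K I x) (hy : CV K I y) (h0 : ip x y ≠ 0) :
    normSq (ip x y) = 1 := by
  obtain ⟨k, hk, j, hj, rfl⟩ := hx
  have h1 : ip (k.1 *ᵥ e j) y = ((k⁻¹).1 *ᵥ y) j := by
    rw [← ip_e j ((k⁻¹).1 *ᵥ y), ← ip_act k (e j), Matrix.mulVec_mulVec]
    have : k.1 * (k⁻¹).1 = 1 := by rw [coe_inv_GU, coe_mul_star]
    rw [this, Matrix.one_mulVec]
  rw [h1] at h0 ⊢
  exact claim_e hns hG hj (hy.act (inv_mem hk)) h0

/-- All coordinates have norm 0 or 1. -/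
theorem norm_coord {y : n → ℍ[F]} (hy : CV K I y) (a : n) : normSq (y a) = 0 ∨ normSq (y a) = 1 := by
  have hyy := hy.unit
  have hgK : Rj a uI ∈ K := hG.sk (Rj_mem _ a uI_mem)
  have h1 := hy.act hgK
  have h3 : (Rj a uI).1 *ᵥ y = fun b => if b = a then qi * y a else y b := by
    rw [Rj_mulVec]
    funext b
    split_ifs with hb
    · rw [hb]; rfl
    · rfl
  set N := normSq (y a) with hN
  set s : ℍ[F] := star (y a) * qi * y a with hs
  have hs0 : s.re = 0 := by rw [hs]; simp; ring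
  have hqi : normSq (qi : ℍ[F]) = 1 := by rw [normSq_def']; simp
  have hsN : normSq s = N * N := by rw [hs, map_mul, map_mul, normSq_star, hqi, mul_one]
  have h4 : ip y ((Rj a uI).1 *ᵥ y) = (1 - ((N : F) : ℍ[F])) + s := by
    rw [h3, ip_change, hyy, mul_sub, star_mul_self, ← mul_assoc, ← hs, ← hN]
    abel
  by_cases h0 : ip y ((Rj a uI).1 *ᵥ y) = 0
  · right
    rw [h4] at h0
    have h5 := congrArg (fun q : ℍ[F] => q.re) h0
    simp [hs0] at h5
    linear_combination -h5
  · have h5 := claim_g hns hG hy h1 h0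
    rw [h4] at h5
    have h6 : normSq ((1 - ((N : F) : ℍ[F])) + s) = (1 - N) * (1 - N) + normSq s := by
      rw [normSq_def', normSq_def']
      simp [hs0]
      ring
    rw [h6, hsN] at h5
    have h7 : (2 : F) * (N * (N - 1)) = 0 := by linear_combination h5
    rcases mul_eq_zero.1 ((mul_eq_zero.1 h7).resolve_left h2) with h8 | h8
    · left; exact h8
    · right; exact sub_eq_zero.1 h8

/-- At most one coordinate has norm 1. -/
theorem norm_unique {y : n → ℍ[F]} (hy : CV K I y) {j k : n} (Nj : normSq (y j) = 1)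
    (Nk : normSq (y k) = 1) : k = j := by
  by_contra hkj
  have hyy := hy.unit
  have key : ∀ w ∈ Q8 F, star (y j) * qi * y j + star (y k) * (w : ℍ[F]) * y k - 1 ≠ 0 →
      normSq (star (y j) * qi * y j + star (y k) * (w : ℍ[F]) * y k - 1) = 1 := by
    intro w hw h0
    have hg : Rj j uI * Rj k w ∈ K := mul_mem (hG.sk (Rj_mem _ j uI_mem)) (hG.sk (Rj_mem _ k hw))
    have h1 := hy.act hg
    have h3 : (Rj j uI * Rj k w).1 *ᵥ y = fun a => if a = j then qi * y j else
        (fun a => if a = k then (w : ℍ[F]) * y k else y a) a := by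
      have h4 : (Rj j uI * Rj k w).1 = (Rj j uI).1 * (Rj k w).1 := rfl
      rw [h4, ← Matrix.mulVec_mulVec, Rj_mulVec, Rj_mulVec]
      funext a
      by_cases haj : a = j
      · subst haj
        rw [if_pos rfl, if_pos rfl]
        simp only [if_neg (Ne.symm hkj)]
        rfl
      · rw [if_neg haj, if_neg haj]
        by_cases hak : a = k
        · subst hak; rfl
        · simp only [if_neg hak]
    have h4 : ip y ((Rj j uI * Rj k w).1 *ᵥ y) =
        star (y j) * qi * y j + star (y k) * (w : ℍ[F]) * y k - 1 := by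
      rw [h3, ip_change, ip_change, hyy]
      simp only [if_neg (Ne.symm hkj)]
      have e1 : star (y j) * y j = 1 := by rw [star_mul_self, Nj, Quaternion.coe_one]
      have e2 : star (y k) * y k = 1 := by rw [star_mul_self, Nk, Quaternion.coe_one]
      rw [mul_sub, mul_sub, e1, e2]
      noncomm_ring
    have h5 := claim_g hns hG hy h1 (by rw [h4]; exact h0)
    rwa [h4] at h5
  set u : ℍ[F] := star (y j) * qi * y j with hu
  set v : ℍ[F] := star (y k) * qi * y k with hv
  have hre : ∀ x : ℍ[F], (star x * qi * x).re = 0 := by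
    intro x; simp; ring
  have hure : u.re = 0 := hre _
  have hvre : v.re = 0 := hre _
  have hqi : normSq (qi : ℍ[F]) = 1 := by rw [normSq_def']; simp
  have hNu : normSq u = 1 := by rw [hu, map_mul, map_mul, normSq_star, Nj, hqi, one_mul, one_mul]
  have hNv : normSq v = 1 := by rw [hv, map_mul, map_mul, normSq_star, Nk, hqi, one_mul, one_mul]
  have k1 := key uI uI_mem (by
    intro h0
    have h1 := congrArg (fun q : ℍ[F] => q.re) h0
    have h3 : ((uI : U F) : ℍ[F]) = qi := rfl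
    rw [h3, ← hv] at h1
    simp only [Quaternion.re_sub, Quaternion.re_add, hure, hvre, Quaternion.re_one,
      Quaternion.re_zero] at h1
    rw [add_zero, zero_sub, neg_eq_zero] at h1
    exact one_ne_zero h1)
  have k2 := key (nu * uI) (mul_mem (Or.inr (Or.inl rfl)) uI_mem) (by
    intro h0
    have h1 := congrArg (fun q : ℍ[F] => q.re) h0
    have h3 : ((nu * uI : U F) : ℍ[F]) = -qi := by
      show (-1 : ℍ[F]) * qi = -qi
      rw [neg_one_mul]
    have h4 : star (y k) * -qi * y k = -v := by rw [hv]; noncomm_ring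
    rw [h3, h4] at h1
    simp only [Quaternion.re_sub, Quaternion.re_add, Quaternion.re_neg, hure, hvre,
      Quaternion.re_one, Quaternion.re_zero] at h1
    rw [neg_zero, add_zero, zero_sub, neg_eq_zero] at h1
    exact one_ne_zero h1)
  have h3 : ((uI : U F) : ℍ[F]) = qi := rfl
  have h3' : ((nu * uI : U F) : ℍ[F]) = -qi := by
    show (-1 : ℍ[F]) * qi = -qi
    rw [neg_one_mul]
  have h4 : star (y k) * -qi * y k = -v := by rw [hv]; noncomm_ring
  rw [h3, ← hv] at k1
  rw [h3', h4] at k2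
  rw [normSq_def'] at hNu hNv k1 k2
  rw [hure] at hNu
  rw [hvre] at hNv
  simp only [Quaternion.re_sub, Quaternion.re_add, Quaternion.re_neg, Quaternion.imI_sub,
    Quaternion.imI_add, Quaternion.imI_neg, Quaternion.imJ_sub, Quaternion.imJ_add,
    Quaternion.imJ_neg, Quaternion.imK_sub, Quaternion.imK_add, Quaternion.imK_neg, hure, hvre,
    Quaternion.re_one, Quaternion.imI_one, Quaternion.imJ_one, Quaternion.imK_one] at k1 k2
  have h5 : (2 : F) * 2 = 0 := by linear_combination k1 + k2 - 2 * hNu - 2 * hNv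
  rcases mul_eq_zero.1 h5 with h | h <;> exact h2 h

/-- The null coordinates vanish. -/
theorem null_coord {y : n → ℍ[F]} (hy : CV K I y) {c a : n} (hca : a ≠ c) (Nc : normSq (y c) = 1)
    (Na : normSq (y a) = 0) : y a = 0 := by
  have hyy := hy.unit
  have hyK : ∀ w ∈ Q8 F, R y hyy w ∈ K := (hy.InS hG.sk).choose_spec
  set u := y c with hu
  have huu : u * star u = 1 := by rw [self_mul_star, Nc, Quaternion.coe_one]
  have huu' : star u * u = 1 := by rw [star_mul_self, Nc, Quaternion.coe_one]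
  have haa : star (y a) * y a = 0 := by rw [star_mul_self, Na, Quaternion.coe_zero]
  -- the norm of the `c`-th coordinate
  have step : ∀ q q' : ℍ[F], IsQ8 q → IsQ8 q' →
      normSq (q' * u + 2 * (u * (star (y a) * q * y a))) = 0 ∨
        normSq (q' * u + 2 * (u * (star (y a) * q * y a))) = 1 := by
    intro q q' hq hq'
    set v : U F := ⟨q, mem_U.2 hq.normSq⟩ with hv
    set v' : U F := ⟨q', mem_U.2 hq'.normSq⟩ with hv'
    have hg : Rj c v' * Rj a v ∈ K :=
      mul_mem (hG.sk (Rj_mem _ c (show v' ∈ Q8 F from hq'))) (hG.sk (Rj_mem _ a (show v ∈ Q8 F from hq)))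
    have hzK : R y hyy nu ∈ K := hyK nu (Or.inr (Or.inl rfl))
    have h3 : (Rj c v' * Rj a v).1 *ᵥ y = fun b => if b = c then q' * u else
        (fun b => if b = a then q * y a else y b) b := by
      have h4 : (Rj c v' * Rj a v).1 = (Rj c v').1 * (Rj a v).1 := rfl
      rw [h4, ← Matrix.mulVec_mulVec, Rj_mulVec, Rj_mulVec]
      funext b
      by_cases hbc : b = c
      · subst hbc
        rw [if_pos rfl, if_pos rfl]
        simp only [if_neg (Ne.symm hca)]
        rfl
      · rw [if_neg hbc, if_neg hbc]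
        by_cases hba : b = a
        · subst hba; rfl
        · simp only [if_neg hba]
    have h4 : ip y ((Rj c v' * Rj a v).1 *ᵥ y) = star u * q' * u + star (y a) * q * y a := by
      rw [h3, ip_change, ip_change, hyy]
      simp only [if_neg (Ne.symm hca)]
      rw [mul_sub, mul_sub, ← hu, huu', haa]
      noncomm_ring
    have h5 := (hy.act hg).act hzK
    have h6 : ((R y hyy nu).1 *ᵥ ((Rj c v' * Rj a v).1 *ᵥ y)) c =
        -(q' * u + 2 * (u * (star (y a) * q * y a))) := by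
      rw [R_mulVec, h4, coe_nu]
      have h7 : ((Rj c v' * Rj a v).1 *ᵥ y) c = q' * u := by rw [h3]; simp
      show ((Rj c v' * Rj a v).1 *ᵥ y) c + y c * _ = _
      rw [h7, ← hu]
      have h8 : u * ((-1 - 1) * (star u * q' * u + star (y a) * q * y a)) =
          -(2 * ((u * star u) * q' * u)) - 2 * (u * (star (y a) * q * y a)) := by noncomm_ring
      rw [h8, huu]
      noncomm_ring
    have h7 := norm_coord hns hG h5 c
    rw [h6, normSq_neg] at h7
    exact h7
  -- hence `s = 0`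
  have hs : ∀ q : ℍ[F], IsQ8 q → star (y a) * q * y a = 0 := by
    intro q hq
    set s : ℍ[F] := star (y a) * q * y a with hs
    have hsN : normSq s = 0 := by rw [hs, map_mul, map_mul, normSq_star, Na, zero_mul, zero_mul]
    set t : ℍ[F] := u * s * star u with ht
    have key : ∀ q' : ℍ[F], IsQ8 q' → (star q' * t).re = 0 := by
      intro q' hq'
      have k1 := step q q' hq hq'
      have k2 := step q (-q') hq hq'.neg
      rw [← hs] at k1 k2
      have hA : normSq (q' * u) = 1 := by rw [map_mul, hq'.normSq, Nc, mul_one]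
      have hB : normSq (2 * (u * s)) = 0 := by rw [map_mul, map_mul, hsN, mul_zero, mul_zero]
      have hpar : normSq (q' * u + 2 * (u * s)) + normSq (-q' * u + 2 * (u * s)) = 2 := by
        have e1 : normSq (q' * u + 2 * (u * s)) + normSq (-q' * u + 2 * (u * s)) =
            2 * normSq (q' * u) + 2 * normSq (2 * (u * s)) := by
          rw [neg_mul]
          generalize q' * u = A
          generalize 2 * (u * s) = B
          rw [normSq_def', normSq_def', normSq_def', normSq_def']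
          simp
          ring
        rw [e1, hA, hB]; ring
      have k3 : normSq (q' * u + 2 * (u * s)) = 1 := by
        rcases k1 with k1 | k1
        · exfalso
          rw [k1, zero_add] at hpar
          rcases k2 with k2 | k2
          · rw [k2] at hpar; exact h2 hpar.symm
          · rw [k2] at hpar
            have : (1 : F) = 0 := by linear_combination -hpar
            exact one_ne_zero this
        · exact k1
      have e2 : normSq (q' * u + 2 * (u * s)) = normSq (q' * u) + normSq (2 * (u * s)) +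
          2 * (2 * (star (q' * u) * (u * s)).re) := by
        generalize q' * u = A
        generalize u * s = B
        rw [normSq_def', normSq_def', normSq_def']
        simp
        ring
      rw [e2, hA, hB] at k3
      have e3 : (2 : F) * (2 * (star (q' * u) * (u * s)).re) = 0 := by linear_combination k3
      have e4 := (mul_eq_zero.1 ((mul_eq_zero.1 e3).resolve_left h2)).resolve_left h2
      have e5 : (star (q' * u) * (u * s)).re = (star q' * t).re := by
        rw [ht, star_mul, mul_assoc, ← mul_assoc (star q') (u * s) (star u)]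
        generalize star q' * (u * s) = A
        simp
        ring
      rw [e5] at e4
      exact e4
    have k0 := key 1 (Or.inl rfl)
    have k1 := key qi (Or.inr (Or.inr (Or.inl rfl)))
    have k2 := key qj (Or.inr (Or.inr (Or.inr (Or.inr (Or.inl rfl)))))
    have k3 := key qk (Or.inr (Or.inr (Or.inr (Or.inr (Or.inr (Or.inr (Or.inl rfl)))))))
    have ht0 : t = 0 := by
      rw [star_one, one_mul] at k0
      simp at k1 k2 k3
      apply Quaternion.ext <;> simp [k0, k1, k2, k3]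
    have e1 : star u * t * u = s := by
      have : star u * t * u = (star u * u) * s * (star u * u) := by rw [ht]; noncomm_ring
      rw [this, huu', one_mul, mul_one]
    rw [← e1, ht0, mul_zero, zero_mul]
  have h0 := hs 1 (Or.inl rfl)
  rw [mul_one] at h0
  exact eq_zero_of_sandwich h2 h0 (hs qi (Or.inr (Or.inr (Or.inl rfl))))
    (hs qj (Or.inr (Or.inr (Or.inr (Or.inr (Or.inl rfl))))))
    (hs qk (Or.inr (Or.inr (Or.inr (Or.inr (Or.inr (Or.inr (Or.inl rfl))))))))

/-- **The frame theorem.** -/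
theorem frame {y : n → ℍ[F]} (hy : CV K I y) : ∃ j, I j ∧ ∀ a, a ≠ j → y a = 0 := by
  have hyy := hy.unit
  obtain ⟨c, hc⟩ : ∃ c, normSq (y c) = 1 := by
    by_contra hcon
    push Not at hcon
    have h1 := sum_normSq hyy
    rw [Finset.sum_eq_zero (fun a _ => (norm_coord hns hG hy a).resolve_right (hcon a))] at h1
    exact zero_ne_one h1
  have hz : ∀ a, a ≠ c → y a = 0 := by
    intro a hac
    refine null_coord hns hG hy hac hc ?_
    rcases norm_coord hns hG hy a with h | h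
    · exact h
    · exact absurd (norm_unique hns hG hy hc h) hac
  refine ⟨c, ?_, hz⟩
  by_contra hcI
  obtain ⟨k, hk, j₀, hj₀, hxk⟩ := hy
  apply hG.h4 j₀ c hj₀ hcI k hk
  rw [Rj, R_conj k (e j₀) (ip_e_e _) (by rw [ip_act, ip_e_e]), R_congr hxk.symm _ hyy, R_nu_eq hz, Rj]

end Main

end Cfsg.Agent.H408.Pron.Frame
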